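import Cfsg.Agent.H161.G2Emb
import Cfsg.Agent.H161.OctOrd3
import Cfsg.Agent.H161.G2Elems
import Cfsg.Agent.H916.RG.Pair_m3
import Cfsg.Agent.H520.RC.MHom
import Cfsg.Agent.ClassicalGeometry.HermOrthonormal
import Cfsg.Agent.GpUn.Row
import Cfsg.Agent.S0283
import Cfsg.Agent.FastGrp
import Cfsg.Agent.Prune
set_option linter.all false

section
prune_inst 0x7ffef8f9ebb8bddedfff7e7ff6dfcffc3b911fffa6dffd4bffe06bff0bdf03180de56bad8de012ff1ff7e21c10b87843fffffeffe26bfc7ffffdfff45ffbee0ff5f7bd08719e8cb40fbc0ff703f0778e7f3fffffffffffffffffffffffffffbeffbfffffffff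

-- part: H566/G2/Defs
section
set_option linter.all false
open scoped Cfsg.Agent.FastGrp

/-!
# S3509, the groups `G₂(q)`: definitions (helper566)

Statements and owners: `tools/plans/S3509_G2_stubs.lean.txt`.
-/

set_option autoImplicit false
open Cfsg

namespace Cfsg.Agent.H566.G2

open Cfsg.Agent.H161.Oct Cfsg.Agent.H106.RC MulAction
open scoped commutatorElement

variable {F : Type} [Field F]

/-- the discriminant of the subalgebra `F[e]` -/
def dsc (e : V F) : F := tr e ^ 2 - 4 * nm e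

/-- the pointwise stabiliser of `F[e]` -/
def MK (e : V F) : Subgroup (AutO F) where
  carrier := {g | (g : V F ≃ₗ[F] V F) e = e}
  mul_mem' {a b} ha hb := by
    change (a : V F ≃ₗ[F] V F) ((b : V F ≃ₗ[F] V F) e) = e
    rw [show (b : V F ≃ₗ[F] V F) e = e from hb, show (a : V F ≃ₗ[F] V F) e = e from ha]
  one_mem' := rfl
  inv_mem' {a} ha := by
    change (a : V F ≃ₗ[F] V F).symm e = e
    rw [LinearEquiv.symm_apply_eq]
    exact (show (a : V F ≃ₗ[F] V F) e = e from ha).symm

theorem mem_MK {e : V F} {g : AutO F} : g ∈ MK e ↔ (g : V F ≃ₗ[F] V F) e = e := Iff.rfl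

/-- `g` preserves `F[e]` -/
def PK (e : V F) (g : AutO F) : Prop := ∃ a b : F, (g : V F ≃ₗ[F] V F) e = a • o + b • e

/-- what the M-rule needs to know about `MK e ≅ SL(3, q)` or `SU(3, q)` -/
structure MFacts (e : V F) : Prop where
  perf : ⁅MK e, MK e⁆ = MK e
  bot : MK e ≠ ⊥
  top : MK e ≠ ⊤
  quo : ∃ (S' : Type) (_ : Group S') (_ : Finite S') (π : MK e →* S'), Function.Surjective π ∧
    π.ker ≤ Subgroup.center (MK e) ∧ IsSimpleGroup S' ∧ ¬ IsMulCommutative S' ∧ Cl S' ∧ ¬ Exc S'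
  cen : ∀ c : AutO F, (∀ m ∈ MK e, c * m = m * c) → c ∈ MK e ∧ c ^ 3 = 1

end Cfsg.Agent.H566.G2
end

-- part: H256/G2/AOne
section
prune_inst 0x10506144142212000818001200003c46aa0004020028000088000d4205c04f2029052121bc90040000802c4450390000000000504028000000000800011d00a0800040060300a10426008f800080000000000000000000000000000000000000000000000
set_option linter.all false
open scoped Cfsg.Agent.FastGrp

/-!
# S3509, `G₂(q)`, box (A1): the pointwise stabiliser of the split subalgebra is `SL(3, q)` (helper256)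
-/

set_option autoImplicit false
open Cfsg

namespace Cfsg.Agent.H256.G2

open Cfsg.Lie Cfsg.Agent.H161.Oct Cfsg.Agent.H106.RC Cfsg.Agent.H566.G2
open scoped commutatorElement

variable {F : Type} [Field F]

/-- `SL₃` into the automorphism group -/
noncomputable def fA (F : Type) [Field F] : Matrix.SpecialLinearGroup (Fin 3) F →* AutO F :=
  (slM F).codRestrict (AutO F) slM_mem

theorem fA_inj : Function.Injective (fA F) := fun _ _ h => slM_inj (congrArg Subtype.val h)

theorem slF_e1 (P : Matrix (Fin 3) (Fin 3) F) : slF P e1 = e1 := by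
  apply ext8 <;> simp [slF0, slF1, slF2, slF3, slF4, slF5, slF6, slF7, e1_0, e1_1, e1_2, e1_3, e1_4, e1_5, e1_6, e1_7]

theorem fA_mem (A : Matrix.SpecialLinearGroup (Fin 3) F) : fA F A ∈ MK (e1 : V F) := slF_e1 A.1

theorem fA_range : (fA F).range = MK (e1 : V F) := by
  ext g
  constructor
  · rintro ⟨A, rfl⟩
    exact fA_mem A
  · intro hg
    obtain ⟨A, hA, h⟩ := exists_sl g.2 hg
    refine ⟨(⟨A, hA⟩ : Matrix.SpecialLinearGroup (Fin 3) F), ?_⟩
    apply Subtype.ext
    rw [h]
    rfl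

/-- `SL₃(F) ≃ MK e1` -/
noncomputable def eA (F : Type) [Field F] : Matrix.SpecialLinearGroup (Fin 3) F ≃* MK (e1 : V F) :=
  (MonoidHom.ofInjective fA_inj).trans (MulEquiv.subgroupCongr fA_range)

/-! ### the centraliser -/

section cen

variable {c : V F ≃ₗ[F] V F} (hc : c ∈ AutO F)
  (h : ∀ P : Matrix (Fin 3) (Fin 3) F, P.det = 1 → ∀ x, c (slF P x) = slF P (c x))

include hc h in
theorem cen_line : ∃ l : F, c (Pi.single 1 1) = l • Pi.single 1 1 := by
  set w := c (Pi.single 1 1) with hw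
  have key : ∀ P : Matrix (Fin 3) (Fin 3) F, P.det = 1 → slF P (Pi.single 1 1) = Pi.single 1 1 → slF P w = w := by
    intro P hP h1
    rw [hw, ← h P hP, h1]
  have k1 := key !![1, 1, 0; 0, 1, 0; 0, 0, 1] (by simp [Matrix.det_fin_three])
    (by apply ext8 <;> simp [slF0, slF1, slF2, slF3, slF4, slF5, slF6, slF7])
  have k2 := key !![1, 0, 1; 0, 1, 0; 0, 0, 1] (by simp [Matrix.det_fin_three])
    (by apply ext8 <;> simp [slF0, slF1, slF2, slF3, slF4, slF5, slF6, slF7])
  have k3 := key !![1, 0, 0; 0, 1, 1; 0, 0, 1] (by simp [Matrix.det_fin_three])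
    (by apply ext8 <;> simp [slF0, slF1, slF2, slF3, slF4, slF5, slF6, slF7])
  have k4 := key !![1, 0, 0; 0, 1, 0; 0, 1, 1] (by simp [Matrix.det_fin_three])
    (by apply ext8 <;> simp [slF0, slF1, slF2, slF3, slF4, slF5, slF6, slF7])
  have w2 : w 2 = 0 := by simpa [slF1] using congrFun k1 1
  have w3 : w 3 = 0 := by simpa [slF1] using congrFun k2 1
  have w4 : w 4 = 0 := by simpa [slF5] using congrFun k1 5
  have w5 : w 5 = 0 := by simpa [slF6] using congrFun k3 6
  have w6 : w 6 = 0 := by simpa [slF5] using congrFun k4 5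
  have ht : w 0 + w 7 = 0 := by
    have := map_tr hc (Pi.single 1 1 : V F)
    simpa [tr] using this
  have hn : w 0 * w 7 = 0 := by
    have := map_nm hc (Pi.single 1 1 : V F)
    rw [← hw, nm, nm, w2, w3, w4] at this
    simp at this
    rcases this with h1 | h1 <;> rw [h1] <;> ring
  have w0 : w 0 = 0 := by
    rcases mul_eq_zero.1 hn with h1 | h1
    · exact h1
    · rwa [h1, add_zero] at ht
  have w7 : w 7 = 0 := by rwa [w0, zero_add] at ht
  refine ⟨w 1, ?_⟩
  apply ext8 <;> simp [w0, w2, w3, w4, w5, w6, w7]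

include hc h in
theorem cen_all : c e1 = e1 ∧ ∃ l : F, l ^ 3 = 1 ∧ ∀ x, c x = ![x 0, l * x 1, l * x 2, l * x 3, l ^ 2 * x 4,
    l ^ 2 * x 5, l ^ 2 * x 6, x 7] := by
  obtain ⟨l, h1⟩ := cen_line hc h
  have hP : (!![0, 0, 1; 1, 0, 0; 0, 1, 0] : Matrix (Fin 3) (Fin 3) F).det = 1 := by
    simp [Matrix.det_fin_three]
  have h2 : c (Pi.single 2 1) = l • Pi.single 2 1 := by
    have e : slF (!![0, 0, 1; 1, 0, 0; 0, 1, 0] : Matrix (Fin 3) (Fin 3) F) (Pi.single 1 1) = Pi.single 2 1 := by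
      apply ext8 <;> simp [slF0, slF1, slF2, slF3, slF4, slF5, slF6, slF7]
    rw [← e, h _ hP, h1]
    exact (slL _).map_smul l _
  have h3 : c (Pi.single 3 1) = l • Pi.single 3 1 := by
    have e : slF (!![0, 0, 1; 1, 0, 0; 0, 1, 0] : Matrix (Fin 3) (Fin 3) F) (Pi.single 2 1) = Pi.single 3 1 := by
      apply ext8 <;> simp [slF0, slF1, slF2, slF3, slF4, slF5, slF6, slF7]
    rw [← e, h _ hP, h2]
    exact (slL _).map_smul l _
  have m : ∀ x y z : V F, zornMul x y = z → c x = l • x → c y = l • y → c z = l ^ 2 • z := by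
    intro x y z hz hx hy
    rw [← hz, mem_AutO.1 hc, hx, hy, zsmul_mul, zmul_smul, smul_smul, pow_two]
  have h4 : c (Pi.single 4 1) = l ^ 2 • Pi.single 4 1 := by
    refine m _ _ _ ?_ h2 h3
    apply ext8 <;> simp [mul0, mul1, mul2, mul3, mul4, mul5, mul6, mul7]
  have h5 : c (Pi.single 5 1) = l ^ 2 • Pi.single 5 1 := by
    refine m _ _ _ ?_ h3 h1
    apply ext8 <;> simp [mul0, mul1, mul2, mul3, mul4, mul5, mul6, mul7]
  have h6 : c (Pi.single 6 1) = l ^ 2 • Pi.single 6 1 := by
    refine m _ _ _ ?_ h1 h2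
    apply ext8 <;> simp [mul0, mul1, mul2, mul3, mul4, mul5, mul6, mul7]
  have he : c e1 = l ^ 3 • e1 := by
    have e : zornMul (Pi.single 1 1 : V F) (Pi.single 4 1) = e1 := by
      apply ext8 <;> simp [mul0, mul1, mul2, mul3, mul4, mul5, mul6, mul7, e1_0, e1_1, e1_2, e1_3, e1_4, e1_5, e1_6, e1_7]
    rw [← e, mem_AutO.1 hc, h1, h4, zsmul_mul, zmul_smul, smul_smul]
    congr 1
    ring
  have hl : l ^ 3 = 1 := by
    have := map_tr hc (e1 : V F)
    rw [he, tr_smul] at this
    simpa [tr, e1_0, e1_7] using this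
  have he' : c e1 = e1 := by rw [he, hl, one_smul]
  refine ⟨he', l, hl, fun x => ?_⟩
  have ho := map_o hc
  have e : x = x 0 • e1 + x 1 • Pi.single 1 1 + x 2 • Pi.single 2 1 + x 3 • Pi.single 3 1 + x 4 • Pi.single 4 1 +
      x 5 • Pi.single 5 1 + x 6 • Pi.single 6 1 + x 7 • (o - e1) := by
    apply ext8 <;> simp [e1_0, e1_1, e1_2, e1_3, e1_4, e1_5, e1_6, e1_7, o0, o1, o2, o3, o4, o5, o6, o7]
  conv_lhs => rw [e]
  simp only [map_add, map_smul, map_sub, he', ho, h1, h2, h3, h4, h5, h6]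
  apply ext8 <;>
    simp [e1_0, e1_1, e1_2, e1_3, e1_4, e1_5, e1_6, e1_7, o0, o1, o2, o3, o4, o5, o6, o7, mul_comm]

end cen

/-- **(A1)** -/
theorem mfacts_e1 [Finite F] (_hq : 3 ≤ Nat.card F) : MFacts (e1 : V F) where
  perf := by
    rw [← fA_range, MonoidHom.range_eq_map, ← Subgroup.map_commutator]
    congr 1
    exact Cfsg.Agent.LieClassical.SLGen.commutator_eq_top (by rw [Fintype.card_fin])
  bot := by
    intro hb
    have h1 : Function.Injective (fA F) := fA_inj
    have h2 : ∀ A, fA F A = 1 := fun A => by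
      have := fA_mem A
      rwa [hb, Subgroup.mem_bot] at this
    have h3 : ∀ A : Matrix.SpecialLinearGroup (Fin 3) F, A = 1 := fun A => h1 ((h2 A).trans (map_one _).symm)
    replace h3 := h3 ⟨!![0, 0, 1; 1, 0, 0; 0, 1, 0], by simp [Matrix.det_fin_three]⟩
    have h4 : (0 : F) = (1 : Matrix (Fin 3) (Fin 3) F) 0 0 := congrFun (congrFun (congrArg Subtype.val h3) 0) 0
    rw [Matrix.one_apply_eq] at h4
    exact zero_ne_one h4
  top := by
    intro ht
    have h1 : (⟨swp F, swp_mem⟩ : AutO F) ∈ MK (e1 : V F) := by rw [ht]; exact Subgroup.mem_top _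
    have h2 := congrFun (show swpF (e1 : V F) = e1 from h1) 0
    rw [swpF0, e1_7, e1_0] at h2
    exact zero_ne_one h2
  quo := by
    refine ⟨Matrix.ProjectiveSpecialLinearGroup (Fin 3) F, inferInstance, inferInstance,
      (QuotientGroup.mk' (Subgroup.center _)).comp (eA F).symm.toMonoidHom,
      (QuotientGroup.mk'_surjective _).comp (eA F).symm.surjective, ?_,
      Cfsg.Agent.H520.RC.psl_simple3 le_rfl, Cfsg.Agent.H520.RC.psl_ncomm3 le_rfl,
      Cfsg.Agent.H520.RC.psl_cl3 le_rfl, Cfsg.Agent.H520.RC.psl_not_exc3 le_rfl (by omega)⟩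
    intro a ha
    rw [MonoidHom.mem_ker] at ha
    have ha' : (QuotientGroup.mk ((eA F).symm a) : Matrix.SpecialLinearGroup (Fin 3) F ⧸ _) = 1 := ha
    rw [QuotientGroup.eq_one_iff, Subgroup.mem_center_iff] at ha'
    rw [Subgroup.mem_center_iff]
    intro b
    have h1 := ha' ((eA F).symm b)
    rw [← map_mul, ← map_mul] at h1
    exact (eA F).symm.injective h1
  cen := by
    intro c hcm
    have h : ∀ P : Matrix (Fin 3) (Fin 3) F, P.det = 1 → ∀ x, (c : V F ≃ₗ[F] V F) (slF P x) =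
        slF P ((c : V F ≃ₗ[F] V F) x) := by
      intro P hP x
      have h1 := congrArg (fun g : AutO F => (g : V F ≃ₗ[F] V F) x) (hcm _ (fA_mem ⟨P, hP⟩))
      exact h1
    obtain ⟨h1, l, hl, h2⟩ := cen_all c.2 h
    refine ⟨h1, ?_⟩
    apply Subtype.ext
    apply LinearEquiv.ext
    intro x
    show ((c : V F ≃ₗ[F] V F) ^ 3) x = x
    have h3 : ((c : V F ≃ₗ[F] V F) ^ 3) x = (c : V F ≃ₗ[F] V F) ((c : V F ≃ₗ[F] V F) ((c : V F ≃ₗ[F] V F) x)) := rfl
    rw [h3, h2 x, h2, h2]
    have hl6 : l ^ 2 * (l ^ 2 * l ^ 2) = 1 := by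
      calc l ^ 2 * (l ^ 2 * l ^ 2) = (l ^ 3) ^ 2 := by ring
        _ = 1 := by rw [hl, one_pow]
    apply ext8
    · rfl
    · show l * (l * (l * x 1)) = x 1
      linear_combination (x 1) * hl
    · show l * (l * (l * x 2)) = x 2
      linear_combination (x 2) * hl
    · show l * (l * (l * x 3)) = x 3
      linear_combination (x 3) * hl
    · show l ^ 2 * (l ^ 2 * (l ^ 2 * x 4)) = x 4
      linear_combination (x 4) * hl6
    · show l ^ 2 * (l ^ 2 * (l ^ 2 * x 5)) = x 5
      linear_combination (x 5) * hl6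
    · show l ^ 2 * (l ^ 2 * (l ^ 2 * x 6)) = x 6
      linear_combination (x 6) * hl6
    · rfl

end Cfsg.Agent.H256.G2
end

-- part: H244/S3509/Facts
section
prune_inst 0x4000002000000000000000000000000000000000000000800000400000000000000000020000000000000000000000000000000000000000000000000000000000000000000000020000000000000000000000000000000000000000000000000000000
set_option linter.all false
open scoped Cfsg.Agent.FastGrp

-- part: H244/S3509/AThree
section
/-!
# S3509, `G₂(q)`: box (A3), transport of `MFacts` and reduction to `e1` and to the anisotropic case (helper244)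
-/

set_option autoImplicit false
open Cfsg

namespace Cfsg.Agent.H244.S3509G2

open Cfsg.Agent.H161.Oct Cfsg.Agent.H106.RC Cfsg.Agent.H566.G2
open scoped commutatorElement

variable {F : Type} [Field F]

/-- transport of `MFacts` along an automorphism of `AutO F` -/
theorem transport {e e' : V F} (h : MFacts e) (φ : AutO F ≃* AutO F)
    (hM : ∀ g : AutO F, φ g ∈ MK e' ↔ g ∈ MK e) : MFacts e' := by
  have hM' : ∀ g : AutO F, φ.symm g ∈ MK e ↔ g ∈ MK e' := by
    intro g
    rw [← hM, MulEquiv.apply_symm_apply]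
  have hmap : MK e' = (MK e).map (φ : AutO F →* AutO F) := by
    ext g
    constructor
    · intro hg
      exact ⟨φ.symm g, (hM' g).2 hg, φ.apply_symm_apply g⟩
    · rintro ⟨x, hx, rfl⟩
      exact (hM x).2 hx
  let ψ : MK e' ≃* MK e :=
    { toFun := fun g => ⟨φ.symm g.1, (hM' g.1).2 g.2⟩
      invFun := fun g => ⟨φ g.1, (hM g.1).2 g.2⟩
      left_inv := fun g => Subtype.ext (φ.apply_symm_apply g.1)
      right_inv := fun g => Subtype.ext (φ.symm_apply_apply g.1)
      map_mul' := fun a b => Subtype.ext (map_mul φ.symm a.1 b.1) }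
  refine ⟨?_, ?_, ?_, ?_, ?_⟩
  · rw [hmap, ← Subgroup.map_commutator, h.perf]
  · intro h0
    apply h.bot
    rw [eq_bot_iff]
    intro x hx
    have h1 : φ x ∈ MK e' := (hM x).2 hx
    rw [h0, Subgroup.mem_bot] at h1
    rw [Subgroup.mem_bot]
    exact (map_eq_one_iff φ φ.injective).1 h1
  · intro h0
    apply h.top
    rw [eq_top_iff]
    intro x _
    rw [← hM x, h0]
    exact Subgroup.mem_top _
  · obtain ⟨S', i1, i2, π, hs, hk, hS, hn, hC, hE⟩ := h.quo
    refine ⟨S', i1, i2, π.comp (ψ : MK e' →* MK e), hs.comp ψ.surjective, ?_, hS, hn, hC, hE⟩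
    intro x hx
    have h1 : ψ x ∈ Subgroup.center (MK e) := hk hx
    rw [Subgroup.mem_center_iff] at h1 ⊢
    intro g
    apply ψ.injective
    rw [map_mul, map_mul]
    exact h1 (ψ g)
  · intro c hc
    obtain ⟨h1, h2⟩ := h.cen (φ.symm c) (by
      intro m hm
      apply φ.injective
      rw [map_mul, map_mul, MulEquiv.apply_symm_apply]
      exact hc (φ m) ((hM m).2 hm))
    refine ⟨(hM' c).1 h1, ?_⟩
    have h3 := congrArg φ h2
    rw [map_pow, MulEquiv.apply_symm_apply, map_one] at h3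
    exact h3

/-- conjugates -/
theorem conj {e : V F} (h : MFacts e) (g : AutO F) : MFacts ((g : V F ≃ₗ[F] V F) e) := by
  apply transport h (MulAut.conj g)
  intro x
  rw [mem_MK, mem_MK, MulAut.conj_apply]
  have h1 : ((g * x * g⁻¹ : AutO F) : V F ≃ₗ[F] V F) ((g : V F ≃ₗ[F] V F) e)
      = (g : V F ≃ₗ[F] V F) ((x : V F ≃ₗ[F] V F) e) := by
    change (g : V F ≃ₗ[F] V F) ((x : V F ≃ₗ[F] V F) ((g : V F ≃ₗ[F] V F).symm
      ((g : V F ≃ₗ[F] V F) e))) = _
    rw [LinearEquiv.symm_apply_apply]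
  rw [h1]
  exact (g : V F ≃ₗ[F] V F).injective.eq_iff

theorem mk_affine (e : V F) {a b : F} (hb : b ≠ 0) : MK (a • o + b • e) = MK e := by
  ext g
  rw [mem_MK, mem_MK, map_add, map_smul, map_smul, map_o g.2, add_right_inj]
  constructor
  · intro h
    exact smul_right_injective _ hb h
  · intro h
    rw [h]

/-- affine changes -/
theorem affine {e : V F} (h : MFacts e) {a b : F} (hb : b ≠ 0) : MFacts (a • o + b • e) := by
  apply transport h (MulEquiv.refl _)
  intro g
  rw [mk_affine e hb]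
  exact Iff.rfl

/-- **Box (A3)**, from (A1) and (A2). -/
theorem mfacts_of (h1 : MFacts (e1 : V F))
    (h2 : ∀ e : V F, (∀ l : F, l ^ 2 - tr e * l + nm e ≠ 0) → MFacts e) {e : V F}
    (he : dsc e ≠ 0) : MFacts e := by
  by_cases hl : ∀ l : F, l ^ 2 - tr e * l + nm e ≠ 0
  · exact h2 e hl
  push Not at hl
  obtain ⟨l, hl⟩ := hl
  obtain ⟨m, hm⟩ : ∃ m : F, tr e = l + m := ⟨tr e - l, by ring⟩
  have hnm : nm e = l * m := by
    rw [hm] at hl
    linear_combination hl
  have hml : m - l ≠ 0 := by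
    intro h0
    apply he
    have h3 : m = l := sub_eq_zero.1 h0
    rw [dsc, hnm, hm, h3]
    ring
  let e' : V F := (m - l)⁻¹ • (e + (-l) • o)
  have ht : tr e' = 1 := by
    change tr ((m - l)⁻¹ • (e + (-l) • o)) = 1
    rw [tr_smul, tr_add, tr_smul, tr_o, hm]
    field_simp
    ring
  have hn : nm e' = 0 := by
    change nm ((m - l)⁻¹ • (e + (-l) • o)) = 0
    rw [nm_smul, nm_add, nm_smul, bl_smul, bl_o, nm_o, hm, hnm]
    ring
  obtain ⟨h, hh, he1⟩ := _root_.Cfsg.Agent.H161.Oct.exists_idem ht hn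
  have h3 : MFacts e' := by
    have h4 := conj h1 (⟨h, hh⟩⁻¹ : AutO F)
    have h5 : (((⟨h, hh⟩⁻¹ : AutO F) : V F ≃ₗ[F] V F)) e1 = e' := by
      change h.symm e1 = e'
      rw [← he1, LinearEquiv.symm_apply_apply]
    rw [h5] at h4
    exact h4
  have h6 : e = l • o + (m - l) • e' := by
    change e = l • o + (m - l) • ((m - l)⁻¹ • (e + (-l) • o))
    rw [smul_smul, mul_inv_cancel₀ hml, one_smul, neg_smul]
    abel
  rw [h6]
  exact affine h3 hml

end Cfsg.Agent.H244.S3509G2
end

-- part: H876/G2U/Ext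
section
/-!
# The quadratic extension defined by an element without split discriminant (helper876)
-/

set_option autoImplicit false

namespace Cfsg.Agent.H876.G2U

open Polynomial

/-- data of a quadratic extension with its involution -/
structure Quad (F : Type) [Field F] (t n : F) where
  L : Type
  [fld : Field L]
  [fin : Finite L]
  φ : F →+* L
  s : L →+* L
  lam : L
  card : Nat.card L = Nat.card F ^ 2
  s_eq : ∀ x, s x = x ^ Nat.card F
  ss : ∀ x, s (s x) = x
  fix : ∀ x, s x = x → ∃ a, φ a = x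
  s_φ : ∀ a, s (φ a) = φ a
  lam_ne : lam - s lam ≠ 0
  add : lam + s lam = φ t
  mul : lam * s lam = φ n

theorem exists_quad {F : Type} [Field F] [Finite F] {t n : F}
    (h : ∀ l : F, l ^ 2 - t * l + n ≠ 0) : Nonempty (Quad F t n) := by
  classical
  have : Fintype F := Fintype.ofFinite F
  set f : F[X] := X ^ 2 - C t * X + C n with hf
  have hdeg : f.natDegree = 2 := by rw [hf]; compute_degree!
  have hmon : f.Monic := by
    rw [hf]
    monicity!
  have hf0 : f ≠ 0 := hmon.ne_zero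
  have hirr : Irreducible f := by
    apply irreducible_of_degree_le_three_of_not_isRoot
    · rw [hdeg]; decide
    · intro x hx
      apply h x
      rw [IsRoot, hf] at hx
      simpa only [_root_.Polynomial.eval_add, _root_.Polynomial.eval_sub, _root_.Polynomial.eval_pow, _root_.Polynomial.eval_X, _root_.Polynomial.eval_mul, _root_.Polynomial.eval_C] using hx
  have : Fact (Irreducible f) := ⟨hirr⟩
  let L := AdjoinRoot f
  let pb := AdjoinRoot.powerBasis hf0
  have : FiniteDimensional F L := pb.finite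
  have hrk : Module.finrank F L = 2 := by
    rw [pb.finrank]
    exact hdeg
  have : Finite L := Module.finite_of_finite F
  have : Fintype L := Fintype.ofFinite L
  have hcardL : Fintype.card L = Fintype.card F ^ 2 := by
    rw [Module.card_eq_pow_finrank (K := F), hrk]
  set φ : F →+* L := algebraMap F L with hφ
  set s : L →+* L := (FiniteField.frobeniusAlgHom F L).toRingHom with hs
  have s_eq : ∀ x, s x = x ^ Nat.card F := fun x => by
    rw [Nat.card_eq_fintype_card]; rfl
  have ss : ∀ x, s (s x) = x := by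
    intro x
    rw [s_eq, s_eq, ← pow_mul, ← pow_two, Nat.card_eq_fintype_card, ← hcardL]
    exact FiniteField.pow_card x
  have s_φ : ∀ a, s (φ a) = φ a := by
    intro a
    rw [s_eq, ← map_pow, Nat.card_eq_fintype_card, FiniteField.pow_card]
  have fix : ∀ x, s x = x → ∃ a, φ a = x := by
    intro x hx
    by_contra hcon
    push Not at hcon
    set S : Finset L := insert x (Finset.univ.image φ) with hS
    have hcS : S.card = Fintype.card F + 1 := by
      rw [hS, Finset.card_insert_of_notMem, Finset.card_image_of_injective _ φ.injective,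
        Finset.card_univ]
      intro h1
      obtain ⟨a, -, ha⟩ := Finset.mem_image.1 h1
      exact hcon a ha
    have hq : 1 < Fintype.card F := Fintype.one_lt_card
    have hp0 : (X ^ Fintype.card F - X : L[X]) ≠ 0 := FiniteField.X_pow_card_sub_X_ne_zero L hq
    have hle := card_le_degree_of_subset_roots (R := L) (p := X ^ Fintype.card F - X) (Z := S) (by
      intro y hy
      rw [mem_roots hp0, IsRoot, eval_sub, eval_pow, eval_X, sub_eq_zero]
      rw [Finset.mem_val, hS, Finset.mem_insert] at hy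
      rcases hy with hy | hy
      · rw [hy]
        have := hx
        rw [s_eq, Nat.card_eq_fintype_card] at this
        exact this
      · obtain ⟨a, -, ha⟩ := Finset.mem_image.1 hy
        rw [← ha, ← map_pow, FiniteField.pow_card])
    rw [hcS, FiniteField.X_pow_card_sub_X_natDegree_eq L hq] at hle
    omega
  set lam : L := AdjoinRoot.root f with hlam
  have hroot : lam ^ 2 - φ t * lam + φ n = 0 := by
    have h1 : (AdjoinRoot.mk f) (X ^ 2 - C t * X + C n) = 0 := AdjoinRoot.mk_self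
    rw [map_add, map_sub, map_mul, map_pow, AdjoinRoot.mk_X, AdjoinRoot.mk_C, AdjoinRoot.mk_C] at h1
    exact h1
  have lam_ne : lam - s lam ≠ 0 := by
    intro h1
    obtain ⟨a, ha⟩ := fix lam (sub_eq_zero.1 h1).symm
    apply h a
    apply φ.injective
    rw [map_zero, map_add, map_sub, map_mul, map_pow, ha]
    exact hroot
  have hroot' : (s lam) ^ 2 - φ t * s lam + φ n = 0 := by
    have := congrArg s hroot
    rw [map_add, map_sub, map_mul, map_pow, s_φ, s_φ, map_zero] at this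
    exact this
  have hadd : lam + s lam = φ t := by
    apply mul_left_cancel₀ lam_ne
    linear_combination hroot - hroot'
  have hmul : lam * s lam = φ n := by
    rw [← hadd] at hroot
    linear_combination -hroot
  exact ⟨⟨L, φ, s, lam, by rw [Nat.card_eq_fintype_card, Nat.card_eq_fintype_card]; exact hcardL,
    s_eq, ss, fix, s_φ, lam_ne, hadd, hmul⟩⟩

end Cfsg.Agent.H876.G2U
end

-- part: H876/G2U/Conj
section
/-!
# Descent for automorphisms of the octonions (helper876)
-/

set_option autoImplicit false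

namespace Cfsg.Agent.H876.G2U

open Cfsg.Lie Cfsg.Agent.H161.Oct
open scoped Matrix

/-- coordinatewise application of a ring homomorphism -/
def up {F L : Type} [Field F] [Field L] (φ : F →+* L) (x : V F) : V L := fun i => φ (x i)

section Up

variable {F L : Type} [Field F] [Field L] (φ : F →+* L)

theorem up_apply (x : V F) (i : Fin 8) : up φ x i = φ (x i) := rfl

theorem up_mul (x y : V F) : up φ (zornMul x y) = zornMul (up φ x) (up φ y) := zornMul_map φ x y

theorem up_add (x y : V F) : up φ (x + y) = up φ x + up φ y := by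
  funext i; simp [up_apply]

theorem up_smul (c : F) (x : V F) : up φ (c • x) = φ c • up φ x := by
  funext i; simp [up_apply]

theorem up_inj : Function.Injective (up φ) := by
  intro x y h
  funext i
  exact φ.injective (congrFun h i)

theorem up_o : up φ o = o := by
  apply ext8 <;> simp [up_apply, o]

theorem up_e1 : up φ e1 = e1 := by
  apply ext8 <;> simp [up_apply, e1]

theorem up_tr (x : V F) : tr (up φ x) = φ (tr x) := by simp [tr, up_apply]

theorem up_nm (x : V F) : nm (up φ x) = φ (nm x) := by simp [nm, up_apply]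

theorem up_single (i : Fin 8) : up φ (Pi.single i 1) = Pi.single i 1 := by
  funext k
  rw [up_apply, Pi.single_apply, Pi.single_apply]
  split_ifs <;> simp

theorem up_swpF (x : V F) : up φ (swpF x) = swpF (up φ x) := by
  apply ext8 <;> simp only [up_apply, swpF, _root_.Fin.isValue, _root_.Matrix.cons_val_zero, _root_.Matrix.cons_val_one, _root_.map_neg, _root_.Matrix.cons_val]

theorem up_slF (P : Matrix (Fin 3) (Fin 3) F) (x : V F) :
    up φ (slF P x) = slF (P.map φ) (up φ x) := by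
  apply ext8 <;> simp only [up_apply, slF, _root_.Fin.isValue, _root_.Matrix.cons_val_zero, _root_.Matrix.map_apply, _root_.Matrix.cons_val_one, _root_.map_add, _root_.map_mul, _root_.Matrix.cons_val, _root_.map_sub]

theorem ext_up {g h : V L ≃ₗ[L] V L} (H : ∀ x : V F, g (up φ x) = h (up φ x)) : g = h := by
  apply LinearEquiv.toLinearMap_injective
  apply (Pi.basisFun L (Fin 8)).ext
  intro i
  rw [Pi.basisFun_apply]
  have := H (Pi.single i 1)
  rw [up_single] at this
  exact this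

/-- extension of scalars of a linear equivalence -/
noncomputable def E : AutO F →* (V L ≃ₗ[L] V L) :=
  ((emb φ).comp (toE F).symm.toMonoidHom).comp (AutO F).subtype

theorem E_up (g : AutO F) (x : V F) : E φ g (up φ x) = up φ ((g : V F ≃ₗ[F] V F) x) := by
  have h1 : (toE F) ((toE F).symm (g : V F ≃ₗ[F] V F)) = g := MulEquiv.apply_symm_apply _ _
  have h2 : ((g : V F ≃ₗ[F] V F) x) = ((toE F).symm (g : V F ≃ₗ[F] V F) : Matrix (Fin 8) (Fin 8) F) *ᵥ x := by
    conv_lhs => rw [← h1]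
    rfl
  rw [h2]
  exact mulVec_map φ _ x

theorem E_mem (g : AutO F) : E φ g ∈ AutO L := by
  apply emb_mem
  rw [← toE_mem]
  have h1 : toE F ((toE F).symm.toMonoidHom ((AutO F).subtype g)) = g :=
    MulEquiv.apply_symm_apply _ _
  rw [h1]
  exact g.2

theorem E_inj : Function.Injective (E φ : AutO F →* (V L ≃ₗ[L] V L)) := by
  intro g h hgh
  apply Subtype.ext
  apply (toE F).symm.injective
  exact emb_inj φ hgh

end Up

section Cj

variable {L : Type} [Field L] {s : L →+* L} (ss : ∀ x, s (s x) = x)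

include ss in
theorem up_up (x : V L) : up s (up s x) = x := by
  funext i
  exact ss _

/-- the conjugate -/
def cj (g : V L ≃ₗ[L] V L) : V L ≃ₗ[L] V L where
  toFun x := up s (g (up s x))
  map_add' x y := by rw [up_add, map_add, up_add]
  map_smul' c x := by rw [up_smul, map_smul, up_smul, ss, RingHom.id_apply]
  invFun x := up s (g.symm (up s x))
  left_inv x := by
    change up s (g.symm (up s (up s (g (up s x))))) = x
    rw [up_up ss, LinearEquiv.symm_apply_apply, up_up ss]
  right_inv x := by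
    change up s (g (up s (up s (g.symm (up s x))))) = x
    rw [up_up ss, LinearEquiv.apply_symm_apply, up_up ss]

theorem cj_apply (g : V L ≃ₗ[L] V L) (x : V L) : cj ss g x = up s (g (up s x)) := rfl

theorem cj_mul (g h : V L ≃ₗ[L] V L) : cj ss (g * h) = cj ss g * cj ss h := by
  apply LinearEquiv.ext
  intro x
  rw [LinearEquiv.mul_apply, cj_apply, cj_apply, cj_apply, up_up ss, LinearEquiv.mul_apply]

theorem cj_one : cj ss (1 : V L ≃ₗ[L] V L) = 1 := by
  apply LinearEquiv.ext
  intro x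
  rw [cj_apply]
  exact up_up ss x

theorem cj_inv (g : V L ≃ₗ[L] V L) : cj ss g⁻¹ = (cj ss g)⁻¹ := by
  rw [eq_inv_iff_mul_eq_one, ← cj_mul, inv_mul_cancel, cj_one]

theorem cj_cj (g : V L ≃ₗ[L] V L) : cj ss (cj ss g) = g := by
  apply LinearEquiv.ext
  intro x
  rw [cj_apply, cj_apply, up_up ss, up_up ss]

theorem cj_mem {g : V L ≃ₗ[L] V L} (hg : g ∈ AutO L) : cj ss g ∈ AutO L := by
  intro x y
  rw [cj_apply, cj_apply, cj_apply, up_mul, mem_AutO.1 hg, up_mul]

theorem cj_swp : cj ss (swp L) = swp L := by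
  apply LinearEquiv.ext
  intro x
  rw [cj_apply, swp_apply, swp_apply, up_swpF, up_up ss]

theorem cj_slM (P : Matrix.SpecialLinearGroup (Fin 3) L) :
    cj ss (slM L P) = slM L (Matrix.SpecialLinearGroup.map s P) := by
  apply LinearEquiv.ext
  intro x
  rw [cj_apply, slM_apply, slM_apply, up_slF, up_up ss]
  rfl

variable {F : Type} [Field F] {φ : F →+* L} (s_φ : ∀ a, s (φ a) = φ a)

include s_φ in
theorem up_up' (x : V F) : up s (up φ x) = up φ x := by
  funext i
  exact s_φ _

include s_φ in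
theorem cj_E (g : AutO F) : cj ss (E φ g) = E φ g := by
  apply ext_up φ
  intro x
  rw [cj_apply, up_up' s_φ, E_up, up_up' s_φ]

theorem exists_E (fix : ∀ x, s x = x → ∃ a, φ a = x) {g : V L ≃ₗ[L] V L} (hg : g ∈ AutO L)
    (hc : cj ss g = g) : ∃ g0 : AutO F, E φ g0 = g := by
  have h1 : ∀ i j, ∃ a, φ a = g (Pi.single j 1) i := by
    intro i j
    apply fix
    have h2 := congrFun (congrArg (fun z : V L ≃ₗ[L] V L => z (Pi.single j 1)) hc) i
    change cj ss g (Pi.single j 1) i = g (Pi.single j 1) i at h2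
    rw [cj_apply, up_single] at h2
    exact h2
  choose N hN using h1
  set M : GL (Fin 8) L := (toE L).symm g with hM
  have hMg : toE L M = g := MulEquiv.apply_symm_apply _ _
  have hMM : (M : Matrix (Fin 8) (Fin 8) L) = (Matrix.of N).map φ := by
    ext i j
    rw [Matrix.map_apply, Matrix.of_apply, hN, ← hMg, toE_apply, Matrix.mulVec_single_one]
    rfl
  have hdet : (Matrix.of N).det ≠ 0 := by
    intro h
    have h2 : (M : Matrix (Fin 8) (Fin 8) L).det = 0 := by
      rw [hMM]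
      have := RingHom.map_det φ (Matrix.of N)
      rw [h, map_zero] at this
      exact this.symm
    exact (Matrix.isUnit_iff_isUnit_det _).1 M.isUnit |>.ne_zero h2
  set g1 : GL (Fin 8) F := Matrix.GeneralLinearGroup.mkOfDetNeZero (Matrix.of N) hdet with hg1
  have hg1c : (g1 : Matrix (Fin 8) (Fin 8) F) = Matrix.of N := rfl
  have hmap : ∀ x : V F, g (up φ x) = up φ (toE F g1 x) := by
    intro x
    rw [← hMg, toE_apply, toE_apply, hMM, hg1c]
    exact mulVec_map φ _ x
  have hmem : toE F g1 ∈ AutO F := by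
    intro x y
    apply up_inj φ
    rw [← hmap, up_mul, mem_AutO.1 hg, hmap, hmap, up_mul]
  refine ⟨⟨toE F g1, hmem⟩, ?_⟩
  apply ext_up φ
  intro x
  rw [E_up, hmap]

end Cj

end Cfsg.Agent.H876.G2U
end

-- part: H876/G2U/Frame
section
/-!
# The unitary frame (helper876)
-/

set_option autoImplicit false

namespace Cfsg.Agent.H876.G2U

open Cfsg.Lie Cfsg.Agent.H161.Oct Cfsg.Agent.H566.G2
open scoped Matrix

section Swp

variable {L : Type} [Field L]

theorem swp_swp : swp L * swp L = 1 := by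
  apply LinearEquiv.ext
  intro x
  rw [LinearEquiv.mul_apply, swp_apply, swp_apply]
  apply ext8 <;> simp only [swpF, _root_.Fin.isValue, _root_.Matrix.cons_val, _root_.neg_neg, _root_.Matrix.cons_val_one, _root_.Matrix.cons_val_zero, _root_.LinearEquiv.coe_one, _root_.id_eq]

theorem swp_e1 : swp L e1 = o - e1 := by
  rw [swp_apply]
  apply ext8 <;> simp only [swpF, o, e1, _root_.Fin.isValue, _root_.Matrix.cons_val, _root_.neg_zero, _root_.Matrix.cons_val_one, _root_.Matrix.cons_val_zero, _root_.Pi.sub_apply, _root_.sub_self, _root_.sub_zero]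

theorem adj_coe (C : Matrix.SpecialLinearGroup (Fin 3) L) :
    ((C⁻¹).transpose : Matrix.SpecialLinearGroup (Fin 3) L).1 = (C.1.adjugate)ᵀ := rfl

theorem swp_slM (C : Matrix.SpecialLinearGroup (Fin 3) L) :
    swp L * slM L C = slM L (C⁻¹).transpose * swp L := by
  apply LinearEquiv.ext
  intro x
  have hd := C.2
  rw [det3] at hd
  rw [LinearEquiv.mul_apply, LinearEquiv.mul_apply, swp_apply, swp_apply, slM_apply, slM_apply,
    adj_coe, Matrix.adjugate_fin_three]
  apply ext8
  · simp only [swpF0, slF0, slF7]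
  · simp only [swpF1, slF1, slF4, swpF2, swpF3, Matrix.transpose_apply, Matrix.of_apply,
      Matrix.cons_val', Matrix.cons_val_zero, Matrix.cons_val_one, Matrix.cons_val]
    ring
  · simp only [swpF1, slF2, slF5, swpF2, swpF3, Matrix.transpose_apply, Matrix.of_apply,
      Matrix.cons_val', Matrix.cons_val_zero, Matrix.cons_val_one, Matrix.cons_val]
    ring
  · simp only [swpF1, slF3, slF6, swpF2, swpF3, Matrix.transpose_apply, Matrix.of_apply,
      Matrix.cons_val', Matrix.cons_val_zero, Matrix.cons_val_one, Matrix.cons_val]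
    ring
  · simp only [swpF4, swpF5, swpF6, slF1, slF4, Matrix.transpose_apply, Matrix.of_apply,
      Matrix.cons_val', Matrix.cons_val_zero, Matrix.cons_val_one, Matrix.cons_val]
    linear_combination (C.1 0 0 * x 1 + C.1 0 1 * x 2 + C.1 0 2 * x 3) * hd
  · simp only [swpF4, swpF5, swpF6, slF2, slF5, Matrix.transpose_apply, Matrix.of_apply,
      Matrix.cons_val', Matrix.cons_val_zero, Matrix.cons_val_one, Matrix.cons_val]
    linear_combination (C.1 1 0 * x 1 + C.1 1 1 * x 2 + C.1 1 2 * x 3) * hd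
  · simp only [swpF4, swpF5, swpF6, slF3, slF6, Matrix.transpose_apply, Matrix.of_apply,
      Matrix.cons_val', Matrix.cons_val_zero, Matrix.cons_val_one, Matrix.cons_val]
    linear_combination (C.1 2 0 * x 1 + C.1 2 1 * x 2 + C.1 2 2 * x 3) * hd
  · simp only [swpF7, slF0, slF7]

theorem slM_swp (C : Matrix.SpecialLinearGroup (Fin 3) L) :
    slM L C * swp L = swp L * slM L (C⁻¹).transpose := by
  have h1 : slM L (C⁻¹).transpose = slM L (C⁻¹).transpose * swp L * swp L := by
    rw [mul_assoc, swp_swp, mul_one]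
  rw [h1, ← swp_slM, ← mul_assoc, ← mul_assoc, swp_swp, one_mul]

theorem slM_e1 (C : Matrix.SpecialLinearGroup (Fin 3) L) : slM L C e1 = e1 := by
  rw [slM_apply]
  apply ext8 <;> simp only [slF, e1, _root_.Fin.isValue, _root_.Matrix.cons_val_zero, _root_.Matrix.cons_val_one, _root_.MulZeroClass.mul_zero, _root_.Matrix.cons_val, _root_.add_zero]

theorem exists_slM {g : V L ≃ₗ[L] V L} (hg : g ∈ AutO L) (he : g e1 = e1) :
    ∃ P : Matrix.SpecialLinearGroup (Fin 3) L, g = slM L P := by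
  obtain ⟨P, hP, h⟩ := exists_sl hg he
  exact ⟨⟨P, hP⟩, h⟩

end Swp

section Frame

variable {F : Type} [Field F] {e : V F} (Q : Quad F (tr e) (nm e))

instance : Field Q.L := Q.fld
instance : Finite Q.L := Q.fin

/-- the idempotent -/
noncomputable def idm : V Q.L := (Q.lam - Q.s Q.lam)⁻¹ • (up Q.φ e - Q.s Q.lam • o)

theorem idm_tr : tr (idm Q) = 1 := by
  have h1 : tr (up Q.φ e - Q.s Q.lam • (o : V Q.L)) = Q.lam - Q.s Q.lam := by
    have h2 : tr (up Q.φ e - Q.s Q.lam • (o : V Q.L)) = tr (up Q.φ e) - Q.s Q.lam * tr (o : V Q.L) := by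
      simp only [tr, Pi.sub_apply, Pi.smul_apply, smul_eq_mul]; ring
    rw [h2, up_tr, tr_o, ← Q.add]; ring
  rw [idm, tr_smul, h1, inv_mul_cancel₀ Q.lam_ne]

theorem idm_nm : nm (idm Q) = 0 := by
  have h1 : nm (up Q.φ e - Q.s Q.lam • (o : V Q.L)) = 0 := by
    have h2 : nm (up Q.φ e - Q.s Q.lam • (o : V Q.L)) =
        nm (up Q.φ e) - Q.s Q.lam * tr (up Q.φ e) + Q.s Q.lam ^ 2 := by
      simp only [nm, tr, Pi.sub_apply, Pi.smul_apply, smul_eq_mul, o0, o1, o2, o3, o4, o5, o6, o7]
      ring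
    rw [h2, up_tr, up_nm, ← Q.add, ← Q.mul]; ring
  rw [idm, nm_smul, h1, mul_zero]

theorem idm_up : up Q.s (idm Q) = o - idm Q := by
  have h2 : up Q.s (up Q.φ e) = up Q.φ e := up_up' Q.s_φ e
  have h3 : up Q.s (idm Q) = (Q.s Q.lam - Q.lam)⁻¹ • (up Q.φ e - Q.lam • o) := by
    rw [idm, up_smul, map_inv₀, map_sub, Q.ss]
    congr 1
    have h4 : up Q.s (up Q.φ e - Q.s Q.lam • o) = up Q.s (up Q.φ e) - up Q.s (Q.s Q.lam • o) := by
      funext i; simp [up_apply]
    rw [h4, h2, up_smul, Q.ss, up_o]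
  rw [h3, idm]
  have h4 : (Q.s Q.lam - Q.lam)⁻¹ = -(Q.lam - Q.s Q.lam)⁻¹ := by
    rw [← neg_sub, inv_neg]
  rw [h4]
  have h5 := Q.lam_ne
  funext i
  simp only [Pi.smul_apply, Pi.sub_apply, smul_eq_mul]
  field_simp
  ring

/-- the fixed vectors -/
theorem fix_iff (g : V Q.L ≃ₗ[Q.L] V Q.L) (hg : g ∈ AutO Q.L) :
    g (idm Q) = idm Q ↔ g (up Q.φ e) = up Q.φ e := by
  have h5 := Q.lam_ne
  rw [idm, map_smul, map_sub, map_smul, map_o hg]
  constructor
  · intro h
    have h1 := congrArg (fun z => (Q.lam - Q.s Q.lam) • z) h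
    simp only [smul_smul, mul_inv_cancel₀ h5, one_smul] at h1
    exact sub_left_injective h1
  · intro h
    rw [h]

theorem exists_frame
    (PPt : ∀ B : Matrix (Fin 3) (Fin 3) Q.L, B = (B.map Q.s).transpose → B.det = 1 →
      ∃ P : Matrix (Fin 3) (Fin 3) Q.L, P.det = 1 ∧ B = P * (P.map Q.s).transpose) :
    ∃ h ∈ AutO Q.L, h (idm Q) = e1 ∧ cj Q.ss h = swp Q.L * h := by
  obtain ⟨h0, h0m, h0e⟩ := _root_.Cfsg.Agent.H161.Oct.exists_idem (idm_tr Q) (idm_nm Q)
  have hcm := cj_mem Q.ss h0m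
  have hc1 : cj Q.ss h0 (o - idm Q) = e1 := by
    rw [cj_apply, ← idm_up, up_up Q.ss, h0e, up_e1]
  have hc2 : (cj Q.ss h0)⁻¹ e1 = o - idm Q := by
    rw [← hc1]
    exact LinearEquiv.symm_apply_apply _ _
  have hc3 : (cj Q.ss h0)⁻¹ (o - e1) = idm Q := by
    rw [map_sub, hc2, map_o ((AutO Q.L).inv_mem hcm)]
    abel
  obtain ⟨B, hB⟩ := exists_slM (g := h0 * (cj Q.ss h0)⁻¹ * swp Q.L)
    ((AutO Q.L).mul_mem ((AutO Q.L).mul_mem h0m ((AutO Q.L).inv_mem hcm)) swp_mem) (by
      rw [LinearEquiv.mul_apply, LinearEquiv.mul_apply, swp_e1, hc3, h0e])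
  -- `h0 = slM B * swp * cj h0`
  have e0 : h0 = slM Q.L B * swp Q.L * cj Q.ss h0 := by
    rw [← hB]
    have := swp_swp (L := Q.L)
    rw [mul_assoc (h0 * (cj Q.ss h0)⁻¹), this, mul_one, mul_assoc, inv_mul_cancel, mul_one]
  have e2 : cj Q.ss h0 = slM Q.L (Matrix.SpecialLinearGroup.map Q.s B) * swp Q.L * h0 := by
    conv_lhs => rw [e0]
    rw [cj_mul, cj_mul, cj_slM, cj_swp, cj_cj]
  have e3 : slM Q.L B * slM Q.L ((Matrix.SpecialLinearGroup.map Q.s B)⁻¹).transpose = 1 := by
    have h1 : h0 = slM Q.L B * (swp Q.L * slM Q.L (Matrix.SpecialLinearGroup.map Q.s B)) * swp Q.L * h0 := by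
      conv_lhs => rw [e0, e2]
      simp only [mul_assoc]
    rw [swp_slM] at h1
    have h2 : slM Q.L B * (slM Q.L ((Matrix.SpecialLinearGroup.map Q.s B)⁻¹).transpose * swp Q.L) *
        swp Q.L * h0 = slM Q.L B * slM Q.L ((Matrix.SpecialLinearGroup.map Q.s B)⁻¹).transpose * h0 := by
      have h3 := swp_swp (L := Q.L)
      calc _ = slM Q.L B * slM Q.L ((Matrix.SpecialLinearGroup.map Q.s B)⁻¹).transpose *
            (swp Q.L * swp Q.L) * h0 := by simp only [mul_assoc]
        _ = _ := by rw [h3, mul_one]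
    rw [h2] at h1
    exact (mul_eq_right.1 h1.symm)
  have e4 : B * ((Matrix.SpecialLinearGroup.map Q.s B)⁻¹).transpose = 1 := by
    apply slM_inj
    rw [map_mul, e3, map_one]
  have e5 : B = (Matrix.SpecialLinearGroup.map Q.s B).transpose := by
    have h1 : ((Matrix.SpecialLinearGroup.map Q.s B)⁻¹).transpose *
        (Matrix.SpecialLinearGroup.map Q.s B).transpose = 1 := by
      apply Subtype.ext
      change ((Matrix.SpecialLinearGroup.map Q.s B)⁻¹).1ᵀ * (Matrix.SpecialLinearGroup.map Q.s B).1ᵀ = 1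
      rw [← Matrix.transpose_mul]
      have := congrArg Subtype.val (mul_inv_cancel (Matrix.SpecialLinearGroup.map Q.s B))
      change (Matrix.SpecialLinearGroup.map Q.s B).1 * ((Matrix.SpecialLinearGroup.map Q.s B)⁻¹).1 = 1 at this
      rw [this, Matrix.transpose_one]
    exact (mul_eq_one_iff_eq_inv.1 e4).trans (inv_eq_of_mul_eq_one_right h1)
  obtain ⟨P, hP, hBP⟩ := PPt B.1 (congrArg Subtype.val e5) B.2
  set P' : Matrix.SpecialLinearGroup (Fin 3) Q.L := ⟨P, hP⟩ with hP'
  have e6 : B = P' * (Matrix.SpecialLinearGroup.map Q.s P').transpose := Subtype.ext hBP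
  refine ⟨slM Q.L P'⁻¹ * h0, (AutO Q.L).mul_mem (slM_mem _) h0m, ?_, ?_⟩
  · rw [LinearEquiv.mul_apply, h0e, slM_e1]
  · have e7 : cj Q.ss h0 = swp Q.L * slM Q.L B⁻¹ * h0 := by
      conv_rhs => rw [e0]
      rw [map_inv]
      calc cj Q.ss h0 = swp Q.L * swp Q.L * cj Q.ss h0 := by rw [swp_swp, one_mul]
        _ = _ := by group
    have e8 : (Matrix.SpecialLinearGroup.map Q.s P'⁻¹)⁻¹.transpose * B⁻¹ = P'⁻¹ := by
      rw [map_inv, inv_inv]
      conv_lhs => rw [e6]
      group
    rw [cj_mul, cj_slM, e7]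
    calc slM Q.L (Matrix.SpecialLinearGroup.map Q.s P'⁻¹) * (swp Q.L * slM Q.L B⁻¹ * h0)
        = (slM Q.L (Matrix.SpecialLinearGroup.map Q.s P'⁻¹) * swp Q.L) * (slM Q.L B⁻¹ * h0) := by
          simp only [mul_assoc]
      _ = (swp Q.L * slM Q.L (Matrix.SpecialLinearGroup.map Q.s P'⁻¹)⁻¹.transpose) *
          (slM Q.L B⁻¹ * h0) := by
          rw [slM_swp]
      _ = swp Q.L * (slM Q.L ((Matrix.SpecialLinearGroup.map Q.s P'⁻¹)⁻¹.transpose * B⁻¹) * h0) := by
          rw [map_mul]; simp only [mul_assoc]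
      _ = _ := by rw [e8]

end Frame

end Cfsg.Agent.H876.G2U
end

-- part: H876/G2U/Iso
section
/-!
# The isomorphism with `SU₃` (helper876)
-/

set_option autoImplicit false

namespace Cfsg.Agent.H876.G2U

open Cfsg.Lie Cfsg.Agent.H161.Oct Cfsg.Agent.H566.G2
open scoped Matrix

variable {F : Type} [Field F] {e : V F} (Q : Quad F (tr e) (nm e)) {h : V Q.L ≃ₗ[Q.L] V Q.L}
  (hm : h ∈ AutO Q.L) (he : h (idm Q) = e1) (hc : cj Q.ss h = swp Q.L * h)

include hc in
theorem cj_conj (A : Matrix.SpecialLinearGroup (Fin 3) Q.L) :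
    cj Q.ss (h⁻¹ * slM Q.L A * h) =
      h⁻¹ * slM Q.L ((Matrix.SpecialLinearGroup.map Q.s A)⁻¹).transpose * h := by
  rw [cj_mul, cj_mul, cj_slM, cj_inv, hc, mul_inv_rev]
  have h1 : (swp Q.L)⁻¹ = swp Q.L := inv_eq_of_mul_eq_one_left swp_swp
  have h2 := swp_slM (Matrix.SpecialLinearGroup.map Q.s A)
  rw [h1]
  calc h⁻¹ * swp Q.L * slM Q.L (Matrix.SpecialLinearGroup.map Q.s A) * (swp Q.L * h)
      = h⁻¹ * (swp Q.L * slM Q.L (Matrix.SpecialLinearGroup.map Q.s A)) * swp Q.L * h := by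
        simp only [mul_assoc]
    _ = h⁻¹ * slM Q.L ((Matrix.SpecialLinearGroup.map Q.s A)⁻¹).transpose *
          (swp Q.L * swp Q.L) * h := by rw [h2]; simp only [mul_assoc]
    _ = _ := by rw [swp_swp, mul_one]

theorem uni_iff (A : Matrix.SpecialLinearGroup (Fin 3) Q.L) :
    A.1 * (A.1.map Q.s)ᵀ = 1 ↔ ((Matrix.SpecialLinearGroup.map Q.s A)⁻¹).transpose = A := by
  have h1 : ((Matrix.SpecialLinearGroup.map Q.s A)⁻¹).transpose *
      (Matrix.SpecialLinearGroup.map Q.s A).transpose = 1 := by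
    apply Subtype.ext
    change ((Matrix.SpecialLinearGroup.map Q.s A)⁻¹).1ᵀ * (Matrix.SpecialLinearGroup.map Q.s A).1ᵀ = 1
    rw [← Matrix.transpose_mul]
    have := congrArg Subtype.val (mul_inv_cancel (Matrix.SpecialLinearGroup.map Q.s A))
    change (Matrix.SpecialLinearGroup.map Q.s A).1 * ((Matrix.SpecialLinearGroup.map Q.s A)⁻¹).1 = 1
      at this
    rw [this, Matrix.transpose_one]
  have h2 : A.1 * (A.1.map Q.s)ᵀ = 1 ↔ A * (Matrix.SpecialLinearGroup.map Q.s A).transpose = 1 :=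
    ⟨fun h => Subtype.ext h, fun h => congrArg Subtype.val h⟩
  rw [h2]
  constructor
  · intro h3
    exact mul_right_cancel (h1.trans h3.symm)
  · intro h3
    rw [h3] at h1
    exact h1

include he in
theorem fix_conj {g : V Q.L ≃ₗ[Q.L] V Q.L} (hg : g e1 = e1) :
    (h⁻¹ * g * h) (idm Q) = idm Q := by
  rw [LinearEquiv.mul_apply, LinearEquiv.mul_apply, he, hg, ← he]
  exact LinearEquiv.symm_apply_apply _ _

include hm he hc in
theorem exists_m {A : Matrix.SpecialLinearGroup (Fin 3) Q.L} (hA : A.1 * (A.1.map Q.s)ᵀ = 1) :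
    ∃ m : AutO F, m ∈ MK e ∧ E Q.φ m = h⁻¹ * slM Q.L A * h := by
  have hg : h⁻¹ * slM Q.L A * h ∈ AutO Q.L :=
    (AutO Q.L).mul_mem ((AutO Q.L).mul_mem ((AutO Q.L).inv_mem hm) (slM_mem A)) hm
  obtain ⟨m, hmE⟩ := exists_E Q.ss (φ := Q.φ) Q.fix hg (by
    rw [cj_conj Q hc, (uni_iff Q A).1 hA])
  refine ⟨m, ?_, hmE⟩
  rw [mem_MK]
  apply up_inj Q.φ
  rw [← E_up, hmE]
  exact (fix_iff Q _ hg).1 (fix_conj Q he (slM_e1 A))

include hm he hc in
theorem exists_A {m : AutO F} (hme : m ∈ MK e) :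
    ∃ A : Matrix.SpecialLinearGroup (Fin 3) Q.L, A.1 * (A.1.map Q.s)ᵀ = 1 ∧
      E Q.φ m = h⁻¹ * slM Q.L A * h := by
  have h1 : E Q.φ m (idm Q) = idm Q := by
    rw [fix_iff Q _ (E_mem Q.φ m), E_up, mem_MK.1 hme]
  have h2 : (h * E Q.φ m * h⁻¹) e1 = e1 := by
    rw [LinearEquiv.mul_apply, LinearEquiv.mul_apply]
    have h3 : h⁻¹ e1 = idm Q := by
      rw [← he]
      exact LinearEquiv.symm_apply_apply _ _
    rw [h3, h1, he]
  obtain ⟨A, hA⟩ := exists_slM (g := h * E Q.φ m * h⁻¹)
    ((AutO Q.L).mul_mem ((AutO Q.L).mul_mem hm (E_mem Q.φ m)) ((AutO Q.L).inv_mem hm)) h2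
  have h4 : E Q.φ m = h⁻¹ * slM Q.L A * h := by
    rw [← hA]; group
  refine ⟨A, ?_, h4⟩
  rw [uni_iff]
  have h5 := cj_E Q.ss Q.s_φ m
  rw [h4, cj_conj Q hc] at h5
  apply slM_inj
  exact mul_left_cancel (mul_right_cancel h5)

include hm he hc in
theorem exists_iso (memSU : ∀ A : Matrix.SpecialLinearGroup (Fin 3) Q.L,
      A ∈ Cfsg.SU 3 Q.L (Nat.card F) ↔ A.1 * (A.1.map Q.s).transpose = 1) :
    Nonempty (MK e ≃* Cfsg.SU 3 Q.L (Nat.card F)) := by
  set f1 : MK e →* (V Q.L ≃ₗ[Q.L] V Q.L) := (E Q.φ).comp (MK e).subtype with hf1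
  set f2 : Cfsg.SU 3 Q.L (Nat.card F) →* (V Q.L ≃ₗ[Q.L] V Q.L) :=
    ((MulAut.conj h⁻¹).toMonoidHom.comp (slM Q.L)).comp (Cfsg.SU 3 Q.L (Nat.card F)).subtype with hf2
  have hf1i : Function.Injective f1 := (E_inj Q.φ).comp Subtype.val_injective
  have hf2i : Function.Injective f2 :=
    ((MulAut.conj h⁻¹).injective.comp slM_inj).comp Subtype.val_injective
  have hf2a : ∀ A : Cfsg.SU 3 Q.L (Nat.card F), f2 A = h⁻¹ * slM Q.L A.1 * h := by
    intro A
    change (MulAut.conj h⁻¹) (slM Q.L A.1) = _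
    rw [MulAut.conj_apply, inv_inv]
  have hr : f1.range = f2.range := by
    ext g
    constructor
    · rintro ⟨m, rfl⟩
      obtain ⟨A, hA, hA2⟩ := exists_A Q hm he hc m.2
      exact ⟨⟨A, (memSU A).2 hA⟩, (hf2a _).trans hA2.symm⟩
    · rintro ⟨A, rfl⟩
      obtain ⟨m, hm1, hm2⟩ := exists_m Q hm he hc ((memSU A.1).1 A.2)
      exact ⟨⟨m, hm1⟩, hm2.trans (hf2a A).symm⟩
  exact ⟨((MonoidHom.ofInjective hf1i).trans (MulEquiv.subgroupCongr hr)).trans
    (MonoidHom.ofInjective hf2i).symm⟩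

end Cfsg.Agent.H876.G2U
end

-- part: H876/G2U/Main0
section
/-!
# The centraliser and the stabiliser: the facts (helper876)
-/

set_option autoImplicit false

namespace Cfsg.Agent.H876.G2U

open Cfsg.Lie Cfsg.Agent.H161.Oct Cfsg.Agent.H566.G2
open scoped Matrix commutatorElement

/-- an element of norm one and order at least three -/
theorem exists_z {L : Type} [Field L] [Finite L] {q : ℕ} (hq : Nat.card L = q ^ 2) (hq3 : 3 ≤ q) :
    ∃ z : L, z ≠ 0 ∧ z * z ^ q = 1 ∧ z ^ 2 ≠ 1 := by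
  obtain ⟨g, hg⟩ := IsCyclic.exists_generator (α := Lˣ)
  have ho : orderOf g = q ^ 2 - 1 := by
    rw [orderOf_eq_card_of_forall_mem_zpowers hg, Nat.card_units, hq]
  have hq2 : (q - 1) * (q + 1) = q ^ 2 - 1 := by
    obtain ⟨r, rfl⟩ : ∃ r, q = r + 1 := ⟨q - 1, by omega⟩
    rw [Nat.add_sub_cancel]
    have : (r + 1) ^ 2 = r * (r + 1 + 1) + 1 := by ring
    omega
  have hz1 : (g ^ (q - 1)) ^ (q + 1) = 1 := by
    rw [← pow_mul, hq2, ← ho, pow_orderOf_eq_one]
  have hz2 : (g ^ (q - 1)) ^ 2 ≠ 1 := by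
    rw [← pow_mul]
    intro h
    have h1 := orderOf_dvd_of_pow_eq_one h
    rw [ho, ← hq2] at h1
    have h2 := Nat.dvd_of_mul_dvd_mul_left (by omega : 0 < q - 1) h1
    have := Nat.le_of_dvd (by norm_num) h2
    omega
  refine ⟨((g ^ (q - 1) : Lˣ) : L), Units.ne_zero _, ?_, ?_⟩
  · rw [← pow_succ', ← Units.val_pow_eq_pow_val, hz1, Units.val_one]
  · intro h
    apply hz2
    apply Units.ext
    rw [Units.val_pow_eq_pow_val, h, Units.val_one]

theorem ne_top {F : Type} [Field F] {e : V F} (h : ∀ l : F, l ^ 2 - tr e * l + nm e ≠ 0) :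
    MK e ≠ ⊤ := by
  intro ht
  have h1 : ∀ g ∈ AutO F, g e = e := by
    intro g hg
    have : (⟨g, hg⟩ : AutO F) ∈ MK e := by rw [ht]; exact Subgroup.mem_top _
    exact this
  have d1 : (!![1, 1, 0; 0, 1, 0; 0, 0, 1] : Matrix (Fin 3) (Fin 3) F).det = 1 := by
    rw [det3]; simp
  have d2 : (!![1, 0, 0; 0, 1, 1; 0, 0, 1] : Matrix (Fin 3) (Fin 3) F).det = 1 := by
    rw [det3]; simp
  have d3 : (!![1, 0, 0; 0, 1, 0; 1, 0, 1] : Matrix (Fin 3) (Fin 3) F).det = 1 := by
    rw [det3]; simp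
  have t1 := h1 _ (sl_mem _ d1)
  have t2 := h1 _ (sl_mem _ d2)
  have t3 := h1 _ (sl_mem _ d3)
  have t4 := h1 _ swp_mem
  rw [sl_apply] at t1 t2 t3
  rw [swp_apply] at t4
  have a2 : e 2 = 0 := by
    have := congrFun t1 1
    simpa [slF] using this
  have a3 : e 3 = 0 := by
    have := congrFun t2 2
    simpa [slF] using this
  have a1 : e 1 = 0 := by
    have := congrFun t3 3
    simpa [slF] using this
  have a7 : e 7 = e 0 := congrFun t4 0
  apply h (e 0)
  rw [tr, nm, a1, a2, a3, a7]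
  ring

theorem mfacts_of_quad {F : Type} [Field F] [Finite F] (hq : 3 ≤ Nat.card F) {e : V F}
    (h : ∀ l : F, l ^ 2 - tr e * l + nm e ≠ 0)
    (exists_PPt : ∀ {L : Type} [Field L] [Finite L] {q : ℕ} (hq : Nat.card L = q ^ 2) (hq1 : 1 < q)
      (s : L →+* L) (hs : ∀ x, s x = x ^ q) (B : Matrix (Fin 3) (Fin 3) L)
      (hB : B = (B.map s).transpose) (hd : B.det = 1),
      ∃ P : Matrix (Fin 3) (Fin 3) L, P.det = 1 ∧ B = P * (P.map s).transpose)
    (mem_SU_iff : ∀ {L : Type} [Field L] [Finite L] {q : ℕ} (s : L →+* L) (hs : ∀ x, s x = x ^ q)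
      (hss : ∀ x, s (s x) = x) (A : Matrix.SpecialLinearGroup (Fin 3) L),
      A ∈ Cfsg.SU 3 L q ↔ A.1 * (A.1.map s).transpose = 1)
    (su_facts : ∀ {L : Type} [Field L] [Finite L] {q : ℕ} (hq : Nat.card L = q ^ 2) (hq3 : 3 ≤ q)
      {G : Type} [Group G] (φ : G ≃* Cfsg.SU 3 L q), commutator G = ⊤ ∧ Nontrivial G ∧
      ∃ (S' : Type) (_ : Group S') (_ : Finite S') (π : G →* S'), Function.Surjective π ∧
        π.ker ≤ Subgroup.center G ∧ IsSimpleGroup S' ∧ ¬ IsMulCommutative S' ∧
        Cfsg.Agent.H106.RC.Cl S' ∧ ¬ Cfsg.Agent.H106.RC.Exc S')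
    (cen_sl : ∀ {L : Type} [Field L] {z : L} (hz : z ^ 2 ≠ 1) (hz0 : z ≠ 0) {D : V L ≃ₗ[L] V L}
      (hD : D ∈ AutO L) (A1 A2 A3 : Matrix.SpecialLinearGroup (Fin 3) L)
      (h1 : A1.1 = Matrix.diagonal ![z, z⁻¹, 1]) (h2 : A2.1 = Matrix.diagonal ![z, 1, z⁻¹])
      (h3 : A3.1 = P3 L) (c1 : D * slM L A1 = slM L A1 * D) (c2 : D * slM L A2 = slM L A2 * D)
      (c3 : D * slM L A3 = slM L A3 * D), D e1 = e1 ∧ D ^ 3 = 1) : MFacts e := by
  obtain ⟨Q⟩ := exists_quad h
  obtain ⟨g, gm, ge, gc⟩ := exists_frame Q (fun B hB hd =>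
    exists_PPt Q.card (by omega) Q.s Q.s_eq B hB hd)
  have memSU := mem_SU_iff Q.s Q.s_eq Q.ss
  obtain ⟨Φ⟩ := exists_iso Q gm ge gc memSU
  obtain ⟨f1, f2, f3⟩ := su_facts Q.card hq Φ
  refine ⟨?_, (Subgroup.nontrivial_iff_ne_bot _).1 f2, ne_top h, f3, ?_⟩
  · rw [← Subgroup.map_subtype_commutator, f1, ← MonoidHom.range_eq_map, Subgroup.range_subtype]
  · intro c hc
    obtain ⟨z, hz0, hzq, hz2⟩ := exists_z Q.card hq
    have hcomm : ∀ A : Matrix.SpecialLinearGroup (Fin 3) Q.L, A.1 * (A.1.map Q.s)ᵀ = 1 →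
        (g * E Q.φ c * g⁻¹) * slM Q.L A = slM Q.L A * (g * E Q.φ c * g⁻¹) := by
      intro A hA
      obtain ⟨m, hm1, hm2⟩ := exists_m Q gm ge gc hA
      have h1 := congrArg (E Q.φ) (hc m hm1)
      rw [map_mul, map_mul, hm2] at h1
      calc (g * E Q.φ c * g⁻¹) * slM Q.L A
          = g * (E Q.φ c * (g⁻¹ * slM Q.L A * g)) * g⁻¹ := by group
        _ = g * ((g⁻¹ * slM Q.L A * g) * E Q.φ c) * g⁻¹ := by rw [h1]
        _ = _ := by group
    have hD : g * E Q.φ c * g⁻¹ ∈ AutO Q.L :=
      (AutO Q.L).mul_mem ((AutO Q.L).mul_mem gm (E_mem Q.φ c)) ((AutO Q.L).inv_mem gm)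
    have hzs : z * Q.s z = 1 := by rw [Q.s_eq]; exact hzq
    have hzs' : z⁻¹ * Q.s z⁻¹ = 1 := by rw [map_inv₀, ← mul_inv, hzs, inv_one]
    have dt1 : (Matrix.diagonal ![z, z⁻¹, 1]).det = 1 := by
      rw [Matrix.det_diagonal, Fin.prod_univ_three]
      simp [hz0]
    have dt2 : (Matrix.diagonal ![z, 1, z⁻¹]).det = 1 := by
      rw [Matrix.det_diagonal, Fin.prod_univ_three]
      simp [hz0]
    have u1 : (Matrix.diagonal ![z, z⁻¹, 1]) * ((Matrix.diagonal ![z, z⁻¹, 1]).map Q.s)ᵀ = 1 := by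
      rw [Matrix.diagonal_map (map_zero _), Matrix.diagonal_transpose, Matrix.diagonal_mul_diagonal,
        ← Matrix.diagonal_one]
      congr 1
      funext i
      fin_cases i
      · simpa only [_root_.Nat.succ_eq_add_one, _root_.Nat.reduceAdd, _root_.Fin.zero_eta, _root_.Fin.isValue, _root_.Matrix.cons_val_zero] using hzs
      · simpa only [_root_.Nat.succ_eq_add_one, _root_.Nat.reduceAdd, _root_.Fin.mk_one, _root_.Fin.isValue, _root_.Matrix.cons_val_one, _root_.Matrix.cons_val_zero, _root_.map_inv₀] using hzs'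
      · simp
    have u2 : (Matrix.diagonal ![z, 1, z⁻¹]) * ((Matrix.diagonal ![z, 1, z⁻¹]).map Q.s)ᵀ = 1 := by
      rw [Matrix.diagonal_map (map_zero _), Matrix.diagonal_transpose, Matrix.diagonal_mul_diagonal,
        ← Matrix.diagonal_one]
      congr 1
      funext i
      fin_cases i
      · simpa only [_root_.Nat.succ_eq_add_one, _root_.Nat.reduceAdd, _root_.Fin.zero_eta, _root_.Fin.isValue, _root_.Matrix.cons_val_zero] using hzs
      · simp
      · simpa only [_root_.Nat.succ_eq_add_one, _root_.Nat.reduceAdd, _root_.Fin.reduceFinMk, _root_.Matrix.cons_val, _root_.map_inv₀] using hzs'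
    have u3 : P3 Q.L * ((P3 Q.L).map Q.s)ᵀ = 1 := by
      ext i j
      (revert i j; simp only [P3, Matrix.mul_apply, Fin.sum_univ_three, _root_.Fin.forall_fin_succ, _root_.Matrix.of_apply, _root_.Matrix.cons_val', _root_.Matrix.cons_val_fin_one, _root_.Matrix.transpose_apply, _root_.Matrix.map_apply, Fin.isValue, _root_.Matrix.cons_val_zero, _root_.Matrix.cons_val_one, _root_.Matrix.cons_val, _root_.map_zero, _root_.MulZeroClass.mul_zero, _root_.add_zero, _root_.map_one, _root_.mul_one, _root_.zero_add, _root_.Matrix.cons_val_succ, _root_.IsEmpty.forall_iff, _root_.and_true, _root_.Matrix.one_apply_eq, Nat.reduceAdd, _root_.Fin.succ_zero_eq_one, _root_.ne_eq, _root_.zero_ne_one, _root_.not_false_eq_true, _root_.Matrix.one_apply_ne, _root_.Fin.succ_one_eq_two, Fin.reduceEq, _root_.and_self, _root_.Fin.succ_ne_zero, _root_.true_and])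
    obtain ⟨k1, k2⟩ := cen_sl hz2 hz0 hD ⟨_, dt1⟩ ⟨_, dt2⟩ ⟨_, det_P3⟩ rfl rfl rfl
      (hcomm _ u1) (hcomm _ u2) (hcomm _ u3)
    constructor
    · rw [mem_MK]
      apply up_inj Q.φ
      rw [← E_up, ← fix_iff Q _ (E_mem Q.φ c)]
      have h3 : g⁻¹ e1 = idm Q := by
        rw [← ge]
        exact LinearEquiv.symm_apply_apply _ _
      have h4 : g (E Q.φ c (g⁻¹ e1)) = g (g⁻¹ e1) := by
        have h5 : g (g⁻¹ (e1 : V Q.L)) = e1 := LinearEquiv.apply_symm_apply _ _
        rw [h5]
        exact k1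
      rw [h3] at h4
      exact g.injective h4
    · apply E_inj Q.φ
      rw [map_pow, map_one]
      have h6 : (g * E Q.φ c * g⁻¹) ^ 3 = g * (E Q.φ c) ^ 3 * g⁻¹ := conj_pow
      rw [h6] at k2
      calc E Q.φ c ^ 3 = g⁻¹ * (g * E Q.φ c ^ 3 * g⁻¹) * g := by group
        _ = 1 := by rw [k2]; group

end Cfsg.Agent.H876.G2U
end

-- part: H393/G2/PPt
section
/-!
# S3509, row `G₂`: hermitian matrices of determinant one (helper393, box U1 of helper876)
-/

set_option autoImplicit false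

namespace Cfsg.Agent.H393.G2

open Matrix

theorem exists_PPt {L : Type} [Field L] [Finite L] {q : ℕ} (hq : Nat.card L = q ^ 2) (hq1 : 1 < q) (s : L →+* L)
    (hs : ∀ x, s x = x ^ q) (B : Matrix (Fin 3) (Fin 3) L) (hB : B = (B.map s).transpose) (hd : B.det = 1) :
    ∃ P : Matrix (Fin 3) (Fin 3) L, P.det = 1 ∧ B = P * (P.map s).transpose := by
  classical
  have := Fintype.ofFinite L
  have hss : ∀ x, s (s x) = x := by
    intro x
    rw [hs, hs, ← pow_mul, ← pow_two, ← hq, Nat.card_eq_fintype_card]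
    exact FiniteField.pow_card x
  have hne : s ≠ RingHom.id L := by
    intro h
    have h1 : ∀ x : L, x ^ q = x := fun x => by rw [← hs, h]; rfl
    have h2 : (Finset.univ : Finset L) ⊆ (Polynomial.X ^ q - Polynomial.X : Polynomial L).roots.toFinset := by
      intro x _
      rw [Multiset.mem_toFinset, Polynomial.mem_roots (FiniteField.X_pow_card_sub_X_ne_zero L hq1)]
      simp [h1 x]
    have h3 := Finset.card_le_card h2
    rw [Finset.card_univ, ← Nat.card_eq_fintype_card, hq] at h3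
    have h4 := (Multiset.toFinset_card_le (Polynomial.X ^ q - Polynomial.X : Polynomial L).roots).trans
      (Polynomial.card_roots' _)
    rw [FiniteField.X_pow_card_sub_X_natDegree_eq L hq1] at h4
    nlinarith only [hq1, h3, h4]
  -- the form
  let b : (Fin 3 → L) →ₛₗ[s] (Fin 3 → L) →ₗ[L] L :=
    LinearMap.mk₂'ₛₗ s (RingHom.id L) (fun u v => (fun i => s (u i)) ⬝ᵥ (B *ᵥ v))
      (fun u u' v => by
        rw [← add_dotProduct]
        congr 1
        funext i
        simp)
      (fun c u v => by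
        rw [smul_eq_mul, ← smul_eq_mul, ← smul_dotProduct]
        congr 1
        funext i
        simp)
      (fun u v v' => by rw [Matrix.mulVec_add, dotProduct_add])
      (fun c u v => by rw [Matrix.mulVec_smul, dotProduct_smul]; rfl)
  have hb : ∀ u v, b u v = (fun i => s (u i)) ⬝ᵥ (B *ᵥ v) := fun _ _ => rfl
  have hsd : ∀ u v : Fin 3 → L, s (u ⬝ᵥ v) = (fun i => s (u i)) ⬝ᵥ (fun i => s (v i)) := by
    intro u v
    rw [dotProduct, dotProduct, map_sum]
    exact Finset.sum_congr rfl fun i _ => map_mul s _ _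
  have hS : b.IsSymm := by
    refine ⟨fun u v => ?_⟩
    rw [hb, hb, hsd]
    have h1 : (fun i => s (s (u i))) = u := by funext i; rw [hss]
    have h2 : (fun i => s ((B *ᵥ v) i)) = (B.map s) *ᵥ (fun i => s (v i)) := by
      funext i
      rw [RingHom.map_mulVec]
      rfl
    rw [h1, h2, Matrix.dotProduct_mulVec, ← Matrix.mulVec_transpose, ← hB, dotProduct_comm]
  have hSL : b.SeparatingLeft := by
    intro u hu
    have hu2 : (fun i => s (u i)) ᵥ* B = 0 := by
      funext j
      have h1 := hu (Pi.single j 1)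
      rw [hb, Matrix.dotProduct_mulVec, dotProduct_single_one] at h1
      exact h1
    have h2 : (fun i => s (u i)) = 0 := by
      have h3 := congrArg (fun w => w ᵥ* B⁻¹) hu2
      simp only [Matrix.vecMul_vecMul, Matrix.zero_vecMul] at h3
      rw [Matrix.mul_nonsing_inv B (by rw [hd]; exact isUnit_one), Matrix.vecMul_one] at h3
      exact h3
    funext i
    have h3 := congrFun h2 i
    exact (map_eq_zero s).1 h3
  obtain ⟨v, hv⟩ := ClassicalGeometry.HermOrthonormal.exists_orthonormal_family hne hss b hS hSL 3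
    (by rw [Module.finrank_fin_fun])
  -- the matrix of the basis
  let V : Matrix (Fin 3) (Fin 3) L := Matrix.of fun i k => v k i
  have hV : (V.map s).transpose * B * V = 1 := by
    ext i j
    rw [Matrix.mul_assoc, Matrix.mul_apply]
    have h1 := hv i j
    rw [hb, dotProduct] at h1
    rw [Matrix.one_apply, ← h1]
    refine Finset.sum_congr rfl fun k _ => ?_
    rfl
  have hdV : (V.map s).transpose.det * V.det = 1 := by
    have h1 := congrArg Matrix.det hV
    rw [Matrix.det_mul, Matrix.det_mul, hd, mul_one, Matrix.det_one] at h1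
    exact h1
  have hdV' : IsUnit V.det := IsUnit.of_mul_eq_one _ (by rw [mul_comm]; exact hdV)
  have hmapd : ∀ M : Matrix (Fin 3) (Fin 3) L, (M.map s).det = s M.det := fun M => (RingHom.map_det s M).symm
  have hmapmul : ∀ M N : Matrix (Fin 3) (Fin 3) L, (M * N).map s = M.map s * N.map s := fun M N => Matrix.map_mul
  have hmapone : (1 : Matrix (Fin 3) (Fin 3) L).map s = 1 := Matrix.map_one s (map_zero s) (map_one s)
  have hmapss : ∀ M : Matrix (Fin 3) (Fin 3) L, (M.map s).map s = M := by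
    intro M
    ext i j
    exact hss _
  set P : Matrix (Fin 3) (Fin 3) L := (V⁻¹.map s).transpose with hP
  have hPs : (P.map s).transpose = V⁻¹ := by
    rw [hP, Matrix.transpose_map, Matrix.transpose_transpose, hmapss]
  have hPB : B = P * (P.map s).transpose := by
    rw [hPs]
    have h1 : (V.map s).transpose * (V⁻¹.map s).transpose = 1 := by
      rw [← Matrix.transpose_mul, ← hmapmul, Matrix.nonsing_inv_mul V hdV', hmapone, Matrix.transpose_one]
    have h2 : (V⁻¹.map s).transpose * (V.map s).transpose = 1 := mul_eq_one_comm.1 h1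
    calc B = (P * (V.map s).transpose) * B * (V * V⁻¹) := by
          rw [h2, Matrix.mul_nonsing_inv V hdV', Matrix.one_mul, Matrix.mul_one]
      _ = P * ((V.map s).transpose * B * V) * V⁻¹ := by simp only [Matrix.mul_assoc]
      _ = P * V⁻¹ := by rw [hV, Matrix.mul_one]
  have hδ : P.det * s P.det = 1 := by
    have h1 := congrArg Matrix.det hPB
    have h2 : (P.map s).transpose.det = s P.det := by rw [Matrix.det_transpose, hmapd]
    rw [hd, Matrix.det_mul, h2] at h1
    exact h1.symm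
  have hδ0 : P.det ≠ 0 := left_ne_zero_of_mul_eq_one hδ
  let D : Matrix (Fin 3) (Fin 3) L := Matrix.diagonal ![P.det⁻¹, 1, 1]
  have hDs : D * (D.map s).transpose = 1 := by
    have h1 : (D.map s).transpose = Matrix.diagonal ![s P.det⁻¹, 1, 1] := by
      ext i j
      (revert i j; simp only [D, _root_.Fin.forall_fin_succ, _root_.map_zero, _root_.Matrix.diagonal_map, _root_.Matrix.transpose_apply, _root_.Nat.succ_eq_add_one, Nat.reduceAdd, _root_.map_inv₀, Fin.isValue, _root_.Fin.succ_zero_eq_one, _root_.Fin.succ_one_eq_two, _root_.IsEmpty.forall_iff, _root_.and_true, _root_.Matrix.diagonal_apply_eq, _root_.Matrix.cons_val_zero, _root_.ne_eq, _root_.one_ne_zero, _root_.not_false_eq_true, _root_.Matrix.diagonal_apply_ne, _root_.zero_ne_one, Fin.reduceEq, _root_.and_self, _root_.Fin.succ_ne_zero, _root_.Matrix.cons_val_one, _root_.map_one, _root_.Matrix.cons_val])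
    rw [h1, Matrix.diagonal_mul_diagonal, ← Matrix.diagonal_one]
    congr 1
    funext i
    fin_cases i
    · show P.det⁻¹ * s P.det⁻¹ = 1
      rw [map_inv₀, ← mul_inv, hδ, inv_one]
    · simp
    · simp
  refine ⟨P * D, ?_, ?_⟩
  · rw [Matrix.det_mul, Matrix.det_diagonal, Fin.prod_univ_three]
    simp [hδ0]
  · rw [hmapmul, Matrix.transpose_mul, Matrix.mul_assoc, ← Matrix.mul_assoc D, hDs, Matrix.one_mul]
    exact hPB

end Cfsg.Agent.H393.G2
end

-- part: H393/G2/SUFacts
section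
/-!
# S3509, row `G₂`: facts on `SU₃` (helper393, box U2 of helper876)
-/

set_option autoImplicit false

namespace Cfsg.Agent.H393.G2

open Matrix

theorem mem_SU_iff {L : Type} [Field L] [Finite L] {q : ℕ} (s : L →+* L) (hs : ∀ x, s x = x ^ q)
    (_hss : ∀ x, s (s x) = x) (A : Matrix.SpecialLinearGroup (Fin 3) L) :
    A ∈ Cfsg.SU 3 L q ↔ A.1 * (A.1.map s).transpose = 1 := by
  have key : ∀ u v : Fin 3 → L, Cfsg.hermForm 3 L q (A.1.mulVec u) (A.1.mulVec v) =
      u ⬝ᵥ ((A.1.transpose * A.1.map s) *ᵥ (fun i => s (v i))) := by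
    intro u v
    have h1 : Cfsg.hermForm 3 L q (A.1.mulVec u) (A.1.mulVec v) =
        (A.1.mulVec u) ⬝ᵥ ((A.1.map s) *ᵥ (fun i => s (v i))) := by
      unfold Cfsg.hermForm
      rw [dotProduct]
      refine Finset.sum_congr rfl fun i _ => ?_
      rw [← hs, RingHom.map_mulVec]
      rfl
    rw [h1, ← Matrix.mulVec_mulVec, Matrix.dotProduct_mulVec u, Matrix.vecMul_transpose]
  have key2 : ∀ u v : Fin 3 → L, Cfsg.hermForm 3 L q u v = u ⬝ᵥ (fun i => s (v i)) := by
    intro u v
    unfold Cfsg.hermForm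
    rw [dotProduct]
    exact Finset.sum_congr rfl fun i _ => by rw [hs]
  have h3 : A.1 * (A.1.map s).transpose = 1 ↔ A.1.transpose * A.1.map s = 1 := by
    rw [← Matrix.transpose_eq_one (M := A.1.transpose * A.1.map s), Matrix.transpose_mul, Matrix.transpose_transpose]
    exact mul_eq_one_comm
  rw [h3, LieClassical.HermBasic.mem_SU_iff]
  constructor
  · intro h
    ext i j
    have h4 := h (Pi.single i 1) (Pi.single j 1)
    rw [key, key2] at h4
    have h5 : (fun k => s ((Pi.single j (1 : L) : Fin 3 → L) k)) = Pi.single j 1 := by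
      funext k
      by_cases hk : k = j
      · subst hk; simp
      · simp [hk]
    rw [h5, Matrix.mulVec_single_one, single_one_dotProduct, single_one_dotProduct] at h4
    rw [Matrix.one_apply]
    simp only [Matrix.col_apply] at h4
    rw [h4, Pi.single_apply]
  · intro h u v
    have h4 := key u v
    rw [h, Matrix.one_mulVec, ← key2] at h4
    exact h4

theorem su_facts {L : Type} [Field L] [Finite L] {q : ℕ} (hq : Nat.card L = q ^ 2) (hq3 : 3 ≤ q) {G : Type} [Group G]
    (φ : G ≃* Cfsg.SU 3 L q) : commutator G = ⊤ ∧ Nontrivial G ∧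
      ∃ (S' : Type) (_ : Group S') (_ : Finite S') (π : G →* S'), Function.Surjective π ∧
        π.ker ≤ Subgroup.center G ∧ IsSimpleGroup S' ∧ ¬ IsMulCommutative S' ∧ Cfsg.Agent.H106.RC.Cl S' ∧
        ¬ Cfsg.Agent.H106.RC.Exc S' := by
  have := Fintype.ofFinite L
  have hF : Fintype.card L = q ^ 2 := by rw [← Nat.card_eq_fintype_card]; exact hq
  have hn : ¬ (3 = 3 ∧ q = 2) := by omega
  have hperf : commutator (Cfsg.SU 3 L q) = ⊤ := GpUn.perfect_SU hF le_rfl hn
  have hsimp : IsSimpleGroup (Cfsg.PSU 3 L q) := S0283.result hF 3 le_rfl hn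
  have hcG : commutator G = ⊤ := by
    have h1 : (commutator (Cfsg.SU 3 L q)).map φ.symm.toMonoidHom = commutator G := by
      rw [commutator_def, commutator_def, Subgroup.map_commutator, ← MonoidHom.range_eq_map,
        MonoidHom.range_eq_top.2 φ.symm.surjective]
    rw [← h1, hperf, ← MonoidHom.range_eq_map, MonoidHom.range_eq_top.2 φ.symm.surjective]
  let π : G →* Cfsg.PSU 3 L q := (QuotientGroup.mk' (Subgroup.center (Cfsg.SU 3 L q))).comp φ.toMonoidHom
  have hπ : Function.Surjective π := (QuotientGroup.mk'_surjective _).comp φ.surjective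
  have hntG : Nontrivial G := by
    obtain ⟨x, hx⟩ := exists_ne (1 : Cfsg.PSU 3 L q)
    obtain ⟨g, rfl⟩ := hπ x
    exact ⟨⟨g, 1, fun h => hx (by rw [h, map_one])⟩⟩
  refine ⟨hcG, hntG, Cfsg.PSU 3 L q, inferInstance, inferInstance, π, hπ, ?_, hsimp, ?_, ?_, ?_⟩
  · intro g hg
    have h1 : φ g ∈ Subgroup.center (Cfsg.SU 3 L q) := (QuotientGroup.eq_one_iff _).1 hg
    rw [Subgroup.mem_center_iff] at h1 ⊢
    intro h
    apply φ.injective
    rw [map_mul, map_mul]
    exact h1 _
  · intro hcomm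
    have h1 : (commutator G).map π = commutator (Cfsg.PSU 3 L q) := by
      rw [commutator_def, commutator_def, Subgroup.map_commutator, ← MonoidHom.range_eq_map, MonoidHom.range_eq_top.2 hπ]
    rw [hcG, ← MonoidHom.range_eq_map, MonoidHom.range_eq_top.2 hπ] at h1
    have h2 : commutator (Cfsg.PSU 3 L q) = ⊥ := by
      rw [commutator_def, Subgroup.commutator_eq_bot_iff_le_centralizer]
      intro a _
      rw [Subgroup.mem_centralizer_iff]
      intro b _
      exact hcomm.is_comm.comm b a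
    rw [h2] at h1
    exact top_ne_bot h1
  · exact Or.inr (Or.inr (Or.inl ⟨L, inferInstance, inferInstance, 3, q, hF, le_rfl, hn, ⟨MulEquiv.refl _⟩⟩))
  · exact Cfsg.Agent.H106.RC.psu_not_exc hF le_rfl hn

end Cfsg.Agent.H393.G2
end

-- part: H385/G2/CenSl
section
/-!
# S3509, `G₂(q)`: the centraliser of `SL₃` in the automorphism group of the octonions (helper385)
-/

set_option autoImplicit false

namespace Cfsg.Agent.H385.G2

open Cfsg.Agent.H161.Oct Cfsg.Lie

theorem cen_sl {L : Type} [Field L] {z : L} (hz : z ^ 2 ≠ 1) (hz0 : z ≠ 0) {D : V L ≃ₗ[L] V L} (hD : D ∈ AutO L)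
    (A1 A2 A3 : Matrix.SpecialLinearGroup (Fin 3) L) (h1 : A1.1 = Matrix.diagonal ![z, z⁻¹, 1])
    (h2 : A2.1 = Matrix.diagonal ![z, 1, z⁻¹]) (h3 : A3.1 = P3 L) (c1 : D * slM L A1 = slM L A1 * D)
    (c2 : D * slM L A2 = slM L A2 * D) (c3 : D * slM L A3 = slM L A3 * D) : D e1 = e1 ∧ D ^ 3 = 1 := by
  have hz1 : z ≠ 1 := fun h => hz (by rw [h, one_pow])
  have hi : z⁻¹ ≠ 1 := fun h => hz1 (inv_eq_one.1 h)
  have hzi : z⁻¹ ≠ z := fun h => hz (by rw [sq]; nth_rw 1 [← h]; exact inv_mul_cancel₀ hz0)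
  have s1 : ∀ x : V L, slM L A1 x = ![x 0, z * x 1, z⁻¹ * x 2, x 3, z⁻¹ * x 4, z * x 5, x 6, x 7] := by
    intro x
    rw [slM_apply, h1]
    apply ext8 <;> simp [slF0, slF1, slF2, slF3, slF4, slF5, slF6, slF7, hz0]
  have s2 : ∀ x : V L, slM L A2 x = ![x 0, z * x 1, x 2, z⁻¹ * x 3, z⁻¹ * x 4, x 5, z * x 6, x 7] := by
    intro x
    rw [slM_apply, h2]
    apply ext8 <;> simp [slF0, slF1, slF2, slF3, slF4, slF5, slF6, slF7, hz0]
  have d1 : ∀ x, D (slM L A1 x) = slM L A1 (D x) := fun x => LinearEquiv.congr_fun c1 x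
  have d2 : ∀ x, D (slM L A2 x) = slM L A2 (D x) := fun x => LinearEquiv.congr_fun c2 x
  have hc : ∀ {c y : L}, c ≠ 1 → y = c * y → y = 0 := by
    intro c y hc h
    by_contra hy
    exact hc (mul_right_cancel₀ hy (by rw [one_mul]; exact h.symm))
  -- the image of `e1`
  have he : ∃ a b : L, D e1 = ![a, 0, 0, 0, 0, 0, 0, b] := by
    have e1' : slM L A1 e1 = e1 := by rw [s1]; apply ext8 <;> simp [e1]
    have e2' : slM L A2 e1 = e1 := by rw [s2]; apply ext8 <;> simp [e1]
    have g1 := d1 e1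
    have g2 := d2 e1
    rw [e1', s1] at g1
    rw [e2', s2] at g2
    refine ⟨D e1 0, D e1 7, ?_⟩
    apply ext8
    · rfl
    · exact hc hz1 (congrFun g1 1)
    · exact hc hi (congrFun g1 2)
    · exact hc hi (congrFun g2 3)
    · exact hc hi (congrFun g1 4)
    · exact hc hz1 (congrFun g1 5)
    · exact hc hz1 (congrFun g2 6)
    · rfl
  obtain ⟨a, b, hab⟩ := he
  -- the image of `E`
  obtain ⟨E, hE⟩ : ∃ E : V L, E = ![0, 1, 0, 0, 0, 0, 0, 0] := ⟨_, rfl⟩
  have hDE : ∃ c : L, D E = c • E := by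
    have e1' : slM L A1 E = z • E := by rw [s1, hE]; apply ext8 <;> simp
    have e2' : slM L A2 E = z • E := by rw [s2, hE]; apply ext8 <;> simp
    have g1 := d1 E
    have g2 := d2 E
    rw [e1', s1, map_smul] at g1
    rw [e2', s2, map_smul] at g2
    have hc' : ∀ {c c' y : L}, c ≠ c' → c * y = c' * y → y = 0 := by
      intro c c' y hc h
      by_contra hy
      exact hc (mul_right_cancel₀ hy h)
    have hc1 : ∀ {y : L}, z * y = y → y = 0 := fun {y} h => hc hz1 h.symm
    refine ⟨D E 1, ?_⟩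
    rw [hE] at g1 g2 ⊢
    apply ext8
    · simpa using hc1 (congrFun g1 0)
    · simp
    · simpa using hc' hzi (congrFun g1 2).symm
    · simpa using hc1 (congrFun g1 3)
    · simpa using hc' hzi (congrFun g1 4).symm
    · simpa using hc1 (congrFun g2 5)
    · simpa using hc1 (congrFun g1 6)
    · simpa using hc1 (congrFun g1 7)
  obtain ⟨c, hc0⟩ := hDE
  have hE0 : E ≠ 0 := fun h => one_ne_zero (α := L) (by rw [hE] at h; exact congrFun h 1)
  have hcne : c ≠ 0 := fun h => hE0 (D.injective (by rw [hc0, h, zero_smul, map_zero]))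
  have heE : zornMul e1 E = E := by
    rw [e1_mul, hE]
    apply ext8 <;> simp
  have ha1 : a = 1 := by
    have g := congrArg D heE
    rw [mem_AutO.1 hD, hc0, hab, hE] at g
    have g1 := congrFun g 1
    simp only [mul1] at g1
    simp only [_root_.Nat.succ_eq_add_one, _root_.Nat.reduceAdd, _root_.Fin.isValue, _root_.Matrix.cons_val_zero, _root_.Pi.smul_apply, _root_.Matrix.cons_val_one, _root_.smul_eq_mul, _root_.mul_one, _root_.Matrix.cons_val, _root_.MulZeroClass.mul_zero, _root_.add_zero, _root_.sub_self, _root_.sub_zero] at g1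
    exact (mul_eq_right₀ hcne).1 g1
  have hb0 : b = 0 := by
    have g := map_tr hD e1
    rw [hab] at g
    simp only [tr, e1] at g
    simp [ha1] at g
    exact g
  have hfix : D e1 = e1 := by
    rw [hab, ha1, hb0]
    rfl
  refine ⟨hfix, ?_⟩
  obtain ⟨P, hP, hDP⟩ := exists_sl hD hfix
  obtain ⟨Q, hQ⟩ : ∃ Q : Matrix.SpecialLinearGroup (Fin 3) L, Q = ⟨P, hP⟩ := ⟨_, rfl⟩
  have hDQ : D = slM L Q := by rw [hDP, hQ]; rfl
  rw [hDQ, ← map_mul, ← map_mul] at c1 c3
  have m1 := congrArg Subtype.val (slM_inj c1)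
  have m3 := congrArg Subtype.val (slM_inj c3)
  rw [Matrix.SpecialLinearGroup.coe_mul, Matrix.SpecialLinearGroup.coe_mul, h1] at m1
  rw [Matrix.SpecialLinearGroup.coe_mul, Matrix.SpecialLinearGroup.coe_mul, h3] at m3
  have hoff : ∀ i j : Fin 3, (![z, z⁻¹, 1] : Fin 3 → L) i ≠ (![z, z⁻¹, 1] : Fin 3 → L) j → Q.1 i j = 0 := by
    intro i j hij
    have := congrFun (congrFun m1 i) j
    rw [Matrix.mul_diagonal, Matrix.diagonal_mul] at this
    by_contra hne
    exact hij (mul_right_cancel₀ hne (this.symm.trans (mul_comm _ _)))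
  have q01 : Q.1 0 1 = 0 := hoff 0 1 (Ne.symm hzi)
  have q02 : Q.1 0 2 = 0 := hoff 0 2 hz1
  have q10 : Q.1 1 0 = 0 := hoff 1 0 hzi
  have q12 : Q.1 1 2 = 0 := hoff 1 2 hi
  have q20 : Q.1 2 0 = 0 := hoff 2 0 (Ne.symm hz1)
  have q21 : Q.1 2 1 = 0 := hoff 2 1 (Ne.symm hi)
  have q11 : Q.1 1 1 = Q.1 0 0 := by
    have := congrFun (congrFun m3 1) 0
    simpa only [Matrix.mul_apply, Fin.sum_univ_three, P3, _root_.Fin.isValue, _root_.Matrix.of_apply, _root_.Matrix.cons_val', _root_.Matrix.cons_val_zero, _root_.Matrix.cons_val_fin_one, _root_.MulZeroClass.mul_zero, _root_.Matrix.cons_val_one, _root_.mul_one, _root_.zero_add, _root_.Matrix.cons_val, _root_.add_zero, _root_.one_mul, _root_.MulZeroClass.zero_mul] using this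
  have q22 : Q.1 2 2 = Q.1 0 0 := by
    have := congrFun (congrFun m3 2) 1
    simpa only [Matrix.mul_apply, Fin.sum_univ_three, P3, q11, _root_.Fin.isValue, _root_.Matrix.of_apply, _root_.Matrix.cons_val', _root_.Matrix.cons_val_one, _root_.Matrix.cons_val_zero, _root_.Matrix.cons_val_fin_one, _root_.MulZeroClass.mul_zero, _root_.add_zero, _root_.Matrix.cons_val, _root_.mul_one, _root_.zero_add, _root_.MulZeroClass.zero_mul, _root_.one_mul] using this
  have hsc : Q.1 = Q.1 0 0 • (1 : Matrix (Fin 3) (Fin 3) L) := by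
    ext i j
    (revert i j; simp only [q01, q02, q10, q12, q20, q21, q11, q22, _root_.Fin.forall_fin_succ, Fin.isValue, _root_.Matrix.smul_apply, _root_.smul_eq_mul, _root_.Fin.succ_zero_eq_one, _root_.Fin.succ_one_eq_two, _root_.IsEmpty.forall_iff, _root_.and_true, _root_.Matrix.one_apply_eq, _root_.mul_one, Nat.reduceAdd, _root_.ne_eq, _root_.zero_ne_one, _root_.not_false_eq_true, _root_.Matrix.one_apply_ne, _root_.MulZeroClass.mul_zero, Fin.reduceEq, _root_.and_self, _root_.Fin.succ_ne_zero])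
  have hcube : Q.1 0 0 ^ 3 = 1 := by
    have := Q.2
    rw [det3, q01, q02, q10, q12, q20, q21, q11, q22] at this
    linear_combination this
  have hQ3 : Q ^ 3 = 1 := by
    apply Subtype.ext
    rw [Matrix.SpecialLinearGroup.coe_pow, hsc, smul_pow, hcube, one_pow, one_smul]
    rfl
  rw [hDQ, ← map_pow, hQ3, map_one]

end Cfsg.Agent.H385.G2
end

-- part: H876/G2U/Main
section
/-!
# `MFacts e` for an element `e` without split discriminant: `MK e ≅ SU(3, q)` (helper876)
-/

set_option autoImplicit false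

namespace Cfsg.Agent.H876.G2U

open Cfsg.Lie Cfsg.Agent.H161.Oct Cfsg.Agent.H566.G2

/-- the pointwise stabiliser of a subfield `F[e]` of the octonions, `|F| ≥ 3` -/
theorem mfacts_ns {F : Type} [Field F] [Finite F] (hq : 3 ≤ Nat.card F) {e : V F}
    (h : ∀ l : F, l ^ 2 - tr e * l + nm e ≠ 0) : MFacts e :=
  mfacts_of_quad hq h
    (fun hq hq1 s hs B hB hd => Cfsg.Agent.H393.G2.exists_PPt hq hq1 s hs B hB hd)
    (fun s hs hss A => Cfsg.Agent.H393.G2.mem_SU_iff s hs hss A)
    (fun hq hq3 _ _ φ => Cfsg.Agent.H393.G2.su_facts hq hq3 φ)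
    (fun hz hz0 _ hD A1 A2 A3 h1 h2 h3 c1 c2 c3 =>
      Cfsg.Agent.H385.G2.cen_sl hz hz0 hD A1 A2 A3 h1 h2 h3 c1 c2 c3)

end Cfsg.Agent.H876.G2U
end

-- part: H244/S3509/Facts
section
/-!
# S3509, `G₂(q)`: `MFacts e` for every `e` with `dsc e ≠ 0` (helper244)
-/

set_option autoImplicit false
open Cfsg

namespace Cfsg.Agent.H244.S3509G2

open Cfsg.Agent.H161.Oct Cfsg.Agent.H106.RC Cfsg.Agent.H566.G2

/-- **(A3)** -/
theorem mfacts {F : Type} [Field F] [Finite F] (hq : 3 ≤ Nat.card F) {e : V F} (he : dsc e ≠ 0) : MFacts e :=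
  mfacts_of (Cfsg.Agent.H256.G2.mfacts_e1 hq) (fun _ h => Cfsg.Agent.H876.G2U.mfacts_ns hq h) he

end Cfsg.Agent.H244.S3509G2
end

private theorem dce_512d4712843a : _root_.True := by
  try have : _root_.True := by simp only [_root_.Cfsg.Agent.H161.Oct.swpF.eq_1]
  try have : _root_.True := by simp only [_root_.Cfsg.Agent.H876.G2U.idm.eq_1]
  try have : _root_.True := by simp only [_root_.Cfsg.Agent.H566.G2.dsc.eq_1]
  try have : _root_.True := by simp only [_root_.Cfsg.Agent.H876.G2U.cj.congr_simp]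
  exact _root_.True.intro
end

-- part: H566/G2/Fix
section
set_option linter.all false
open scoped Cfsg.Agent.FastGrp

/-!
# S3509, the groups `G₂(q)`: (B), elements of order prime to the characteristic (helper566)
-/

set_option autoImplicit false
open Cfsg

namespace Cfsg.Agent.H566.G2

open Cfsg.Agent.H161.Oct Cfsg.Agent.H106.RC MulAction
open scoped commutatorElement

variable {F : Type} [Field F]

theorem dsc_add_o (a : F) (e : V F) : dsc (a • o + e) = dsc e := by
  unfold dsc; rw [tr_add, tr_smul, tr_o, nm_add, nm_smul, nm_o, bl_smul', bl_comm o e, bl_o]; ring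

/-- (B), with `m ≠ 0` in `F` -/
theorem exists_e' {s : V F ≃ₗ[F] V F} (hs : s ∈ AutO F) (hdet : LinearMap.det (s : V F →ₗ[F] V F) = 1)
    {m : ℕ} (hm : (m : F) ≠ 0) (hsm : s ^ m = 1) : ∃ e : V F, s e = e ∧ dsc e ≠ 0 := by
  have hso := map_o hs
  by_cases h2 : (2 : F) = 0
  · have h1 : tr (avg s m e1) = m := by rw [tr_avg hs]; simp [tr, e1]
    refine ⟨avg s m e1, avg_fixed hsm _, ?_⟩
    unfold dsc
    rw [h1]
    have h4 : (4 : F) = 0 := by rw [show (4 : F) = 2 * 2 by norm_num, h2, zero_mul]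
    rw [h4, zero_mul, sub_zero]
    exact pow_ne_zero 2 hm
  · obtain ⟨v, hv0, hv⟩ := exists_fixed_of_det
      (T := (s : V F →ₗ[F] V F) ∘ₗ LinearMap.transvection (-trL F) o) (by
        intro x y
        simp only [LinearMap.comp_apply, LinearEquiv.coe_coe, LinearMap.transvection.apply,
          LinearMap.neg_apply, trL_apply]
        rw [map_bl hs]
        simp only [bl, tr, Pi.add_apply, Pi.smul_apply, smul_eq_mul, o0, o1, o2, o3, o4, o5, o6, o7]
        ring) (by
        rw [LinearMap.det_comp, hdet, LinearMap.transvection.det, LinearMap.neg_apply, trL_apply,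
          tr_o]
        intro h
        apply h2
        linear_combination -h)
    have hv' : s v - tr v • o = v := by
      have := hv
      simp only [LinearMap.comp_apply, LinearEquiv.coe_coe, LinearMap.transvection.apply,
        LinearMap.neg_apply, trL_apply, map_add, map_smul, hso] at this
      rw [neg_smul, ← sub_eq_add_neg] at this
      exact this
    have htv : tr v = 0 := by
      have := congrArg tr hv'
      have e1 : s v - tr v • o = s v + (-tr v) • o := by rw [neg_smul]; abel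
      rw [e1, tr_add, tr_smul, tr_o, map_tr hs] at this
      have h3 : (2 : F) * tr v = 0 := by linear_combination -this
      rcases mul_eq_zero.1 h3 with h | h
      · exact absurd h h2
      · exact h
    have hsv : s v = v := by
      rw [htv, zero_smul, sub_zero] at hv'
      exact hv'
    obtain ⟨u, hu, hut, hun⟩ : ∃ u : V F, s u = u ∧ tr u = 0 ∧ nm u ≠ 0 := by
      by_cases hnv : nm v = 0
      swap
      · exact ⟨v, hsv, htv, hnv⟩
      obtain ⟨w, hw⟩ : ∃ w, bl v w ≠ 0 := by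
        by_contra hcon
        push Not at hcon
        exact hv0 (eq_zero_of_bl hcon)
      set w₇ := w + (-(tr w / 2)) • o with hw₇
      have e1 : tr w₇ = 0 := by
        rw [hw₇, tr_add, tr_smul, tr_o]; field_simp; ring
      have e2 : bl v w₇ = bl v w := by
        rw [hw₇, bl_add, bl_smul, bl_o, htv]; ring
      set w' := avg s m w₇ with hw'
      have f1 : s w' = w' := avg_fixed hsm _
      have f2 : tr w' = 0 := by rw [hw', tr_avg hs, e1, mul_zero]
      have f3 : bl v w' ≠ 0 := by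
        rw [hw', bl_avg hs hsv, e2]
        exact mul_ne_zero hm hw
      by_cases hnw : nm w' = 0
      · refine ⟨v + w', by rw [map_add, hsv, f1], by rw [tr_add, htv, f2, add_zero], ?_⟩
        rw [nm_add, hnv, hnw, zero_add, zero_add]; exact f3
      · exact ⟨w', f1, f2, hnw⟩
    refine ⟨u, hu, ?_⟩
    unfold dsc
    rw [hut]
    have h4 : (4 : F) ≠ 0 := by rw [show (4 : F) = 2 * 2 by norm_num]; exact mul_ne_zero h2 h2
    intro h
    have h5 : (4 : F) * nm u = 0 := by linear_combination -h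
    rcases mul_eq_zero.1 h5 with h6 | h6
    · exact h4 h6
    · exact hun h6

/-- (B) -/
theorem exists_e [Finite F] {p : ℕ} [CharP F p] (hdet : ∀ g ∈ AutO F, LinearMap.det (g : V F →ₗ[F] V F) = 1)
    {s : V F ≃ₗ[F] V F} (hs : s ∈ AutO F) {m : ℕ} (hm : ¬ p ∣ m) (hsm : s ^ m = 1) : ∃ e : V F, s e = e ∧ dsc e ≠ 0 :=
  exists_e' hs (hdet s hs) (fun h => hm ((CharP.cast_eq_zero_iff F p m).1 h)) hsm

end Cfsg.Agent.H566.G2
end
end
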